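import Groth.Agent.LichtLib.Basic
import Groth.Agent.DegPullLib.H0
import Groth.Agent.AmpleAffLib.Coprod
import Groth.Agent.QCohLib.Gen
import Groth.Agent.QCohLib.Coherent
import Groth.Prelude.Def_Curv2

/-!
# Global generation when `H¹(O) = 0` and `H² = 0`
-/

set_option autoImplicit false
set_option linter.style.haveILetI false
set_option maxHeartbeats 1000000
universe u

open CategoryTheory CategoryTheory.Limits AlgebraicGeometry TopologicalSpace Opposite
open QCohLib

noncomputable section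

namespace NefH1Lib

variable {X : Scheme.{u}}

theorem e0_map {M N : X.Modules} (φ : M ⟶ N) (x : Coh.HH X M 0) :
    DegPullLib.e0 N (LichtLib.hm φ 0 x) = φ.app ⊤ (DegPullLib.e0 M x) := by
  have h1 := QCohLib.hEquiv_map ((toAbF X).map φ) 0 x
  have h2 := QCohLib.h0_comp (QCohLib.hEquiv ((QCohLib.toAbF X).obj M) 0 x) ((toAbF X).map φ)
  exact (congrArg (QCohLib.h0 (U := (⊤ : Opens X.toTopCat))) h1).trans h2

theorem kernel_shortExact {M N : X.Modules} (φ : M ⟶ N) [Epi φ] :
    (ShortComplex.mk (kernel.ι φ) φ (kernel.condition φ)).ShortExact :=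
  { exact := ShortComplex.exact_of_f_is_kernel _ (kernelIsKernel φ)
    mono_f := inferInstanceAs (Mono (kernel.ι φ))
    epi_g := ‹_› }

theorem isQCoh_kernel_epi {M N : X.Modules} (φ : M ⟶ N) (hM : Coh.IsQCoh M) (hN : Coh.IsQCoh N) :
    Coh.IsQCoh (kernel φ) := haveI := hM; haveI := hN; QCohLib.isQCoh_kernel φ

/-- Epimorphisms are surjective on `H¹` when `H²` vanishes. -/
theorem surjective_h1 (hvan : ∀ N : X.Modules, Coh.IsQCoh N → Subsingleton (Coh.HH X N 2))
    {M N : X.Modules} (hM : Coh.IsQCoh M) (hN : Coh.IsQCoh N) (φ : M ⟶ N) [Epi φ] :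
    Function.Surjective (LichtLib.hm φ 1) :=
  LichtLib.surjective_g (kernel_shortExact φ) (hvan _ (isQCoh_kernel_epi φ hM hN))

theorem h1_of_epi (hvan : ∀ N : X.Modules, Coh.IsQCoh N → Subsingleton (Coh.HH X N 2))
    {M N : X.Modules} (hM : Coh.IsQCoh M) (hN : Coh.IsQCoh N) (φ : M ⟶ N) [Epi φ]
    (h : Subsingleton (Coh.HH X M 1)) : Subsingleton (Coh.HH X N 1) :=
  (surjective_h1 hvan hM hN φ).subsingleton

variable [CompactSpace X] [X.IsSeparated]

/-- The free module, as a module on the scheme. -/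
abbrev freeM (X : Scheme.{u}) (ι : Type u) : X.Modules := SheafOfModules.free (R := X.ringCatSheaf) ι

omit [CompactSpace X] [X.IsSeparated] in
theorem isQCoh_free (ι : Type u) : Coh.IsQCoh (freeM X ι) :=
  QCohLib.isQCoh_sigma (fun _ : ι => Coh.structureModule X) fun _ => QCohLib.isQCoh_unit

theorem h1_free (h1 : Subsingleton (Coh.HH X (Coh.structureModule X) 1)) (ι : Type u) :
    Subsingleton (Coh.HH X (freeM X ι) 1) :=
  AmpleAffLib.subsingleton_HH_sigma (F := fun _ : ι => Coh.structureModule X) (fun _ => QCohLib.isQCoh_unit)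
    fun _ => h1

variable (hvan : ∀ N : X.Modules, Coh.IsQCoh N → Subsingleton (Coh.HH X N 2))
  (h1 : Subsingleton (Coh.HH X (Coh.structureModule X) 1))

include hvan h1 in
/-- Quotients of globally generated modules have no `H¹`. -/
theorem h1_of_gg {M : X.Modules} (hM : Coh.IsQCoh M) (hgg : Curv2.IsGloballyGenerated M) :
    Subsingleton (Coh.HH X M 1) := by
  obtain ⟨ι, p, hp⟩ := hgg
  let p' : freeM X ι ⟶ M := p
  haveI : Epi p' := hp
  exact h1_of_epi hvan (isQCoh_free ι) hM p' (h1_free h1 ι)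

include hvan h1 in
/-- A coherent module all of whose nonzero coherent quotients have a section is globally generated. -/
theorem gg_of_sections [IsLocallyNoetherian X] {L : X.Modules} (hL : Coh.IsCoh L)
    (H : ∀ (T : X.Modules) (π : L ⟶ T), Epi π → Coh.IsCoh T → ¬ IsZero T → ∃ t : Γ(T, ⊤), t ≠ 0) :
    Curv2.IsGloballyGenerated L := by
  let p : freeM X Γ(L, ⊤) ⟶ L :=
    L.freeHomEquiv.symm fun s => toSections L s
  refine ⟨Γ(L, ⊤), p, ?_⟩
  let π : L ⟶ cokernel p := cokernel.π p
  have hP := isQCoh_free (X := X) Γ(L, ⊤)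
  have hC : Coh.IsCoh (cokernel p) := QCohLib.isCoh_cokernel p hP hL
  by_contra hne
  have hnz : ¬ IsZero (cokernel p) := fun hz => hne (Abelian.epi_of_cokernel_π_eq_zero p (hz.eq_of_tgt _ _))
  obtain ⟨t, ht⟩ := H (cokernel p) π inferInstance hC hnz
  have hF : Coh.IsQCoh (kernel π) := isQCoh_kernel_epi π hL.1 hC.1
  have hF1 : Subsingleton (Coh.HH X (kernel π) 1) :=
    h1_of_epi hvan hP hF (Abelian.factorThruImage p) (h1_free h1 _)
  obtain ⟨x, hx⟩ := LichtLib.surjective_g (kernel_shortExact π) hF1 ((DegPullLib.e0 (cokernel p)).symm t)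
  refine ht ?_
  have hσ : π.app ⊤ (DegPullLib.e0 L x) = t := by
    rw [← e0_map]
    exact (congrArg (DegPullLib.e0 (cokernel p)) hx).trans (AddEquiv.apply_symm_apply _ _)
  have hz : unitHom L (DegPullLib.e0 L x) ≫ π = 0 := by
    have hfac : (SheafOfModules.ιFree (R := X.ringCatSheaf) (DegPullLib.e0 L x) :
        Coh.structureModule X ⟶ freeM X Γ(L, ⊤)) ≫ p =
          unitHom L (DegPullLib.e0 L x) := QCohLib.ιFree_comp (fun s : Γ(L, ⊤) => s) _
    rw [← hfac]
    exact (Category.assoc _ _ _).trans ((congrArg (_ ≫ ·) (cokernel.condition p)).trans comp_zero)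
  rw [QCohLib.app_unitHom_app, hσ] at hz
  have h2 := congr_arg (fun φ : Coh.structureModule X ⟶ cokernel p => φ.app ⊤ (1 : Γ(X, ⊤))) hz
  change (unitHom (cokernel p) t).app ⊤ (1 : Γ(X, ⊤)) = 0 at h2
  rw [unitHom_app, one_smul] at h2
  exact (QCohLib.toSections_top _ t).symm.trans h2

end NefH1Lib
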