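import Groth.Agent.NefH1Lib.Core
import Groth.Agent.LMLib.Rank
import Groth.Agent.LMLib.Push
import Groth.Agent.CurvLib.EulerTensor
import Groth.Agent.DevissLib.Filtration
import Groth.Agent.DevissLib.KilledImm

/-!
# Nef invertible modules on proper schemes of dimension at most one
-/

set_option autoImplicit false
set_option linter.style.haveILetI false
set_option maxHeartbeats 1000000
set_option backward.isDefEq.respectTransparency false
set_option backward.isDefEq.respectTransparency.types false
universe u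

open CategoryTheory CategoryTheory.Limits AlgebraicGeometry TopologicalSpace Opposite

noncomputable section

namespace NefH1Lib

variable (k : Type u) [Field k] {X : Scheme.{u}} [X.Over (Spec (CommRingCat.of k))]
  [IsProper (X ↘ Spec (CommRingCat.of k))]

/-- Nef with respect to all integral curves mapping by closed immersions. -/
def Nef' (L : X.Modules) : Prop :=
  ∀ (Z : Scheme.{u}) (i : Z ⟶ X), IsClosedImmersion i → IsIntegral Z → topologicalKrullDim Z = 1 →
    0 ≤ @Curv2.deg k _ Z ⟨i ≫ (X ↘ Spec (CommRingCat.of k))⟩ ((Scheme.Modules.pullback i).obj L) 1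

/-- `χ` on the source of a closed immersion. -/
theorem euler_pullback {Z : Scheme.{u}} [Z.Over (Spec (CommRingCat.of k))] (i : Z ⟶ X) [IsClosedImmersion i]
    (hi : i ≫ (X ↘ Spec (CommRingCat.of k)) = Z ↘ Spec (CommRingCat.of k)) {L : X.Modules}
    (hL : PicF.IsInvertible L) :
    Curv2.euler k Z ((Scheme.Modules.pullback i).obj L) =
        Curv2.euler k X (CohB1.tensorMod L (ClSub.quotMod i.ker)) ∧
      Curv2.euler k Z (Coh.structureModule Z) = Curv2.euler k X (ClSub.quotMod i.ker) := by
  haveI := CurvLib.isNoetherian k (X := X)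
  haveI : IsLocallyNoetherian Z := LocallyOfFiniteType.isLocallyNoetherian i
  obtain ⟨eq⟩ := SurfNumLib.quotMod_ker_iso i
  have hLf : FlatMod.IsFinLocFree L := CurveVBLib.isFinLocFree_of_rank (CurvLib.locFree_of_isInvertible hL)
  haveI : Coh.IsQCoh (Coh.structureModule Z) := QCohLib.isQCoh_unit
  refine ⟨?_, ?_⟩
  · let pr := @asIso _ _ _ _ (ProjFormLib.projApp i L (Coh.structureModule Z))
      (ProjFormLib.isIso_projApp i hLf (Coh.structureModule Z))
    let e2 : CohB1.tensorMod ((Scheme.Modules.pullback i).obj L) (Coh.structureModule Z) ≅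
        (Scheme.Modules.pullback i).obj L :=
      KFlatLib.tensSwap (Coh.structureModule Z) _ ≪≫ KFlatLib.tensUnitIso _
    let e : CohB1.tensorMod L (ClSub.quotMod i.ker) ≅ (Coh.push i).obj ((Scheme.Modules.pullback i).obj L) :=
      SerreVanLib.tensorCongr L eq ≪≫ pr ≪≫ (Coh.push i).mapIso e2
    haveI := (CurvLib.isCoh_of_isInvertible (AmpleDevLib.isInvertible_pb i hL)).1
    rw [CurvLib.euler_congr (k := k) e, ← (PushLinLib.euler_push k i hi _).2]
  · rw [CurvLib.euler_congr (k := k) eq, ← (PushLinLib.euler_push k i hi _).2]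

omit [IsProper (X ↘ Spec (CommRingCat.of k))] in
theorem topDim_le {Z : Scheme.{u}} (i : Z ⟶ X) [IsClosedImmersion i] :
    topologicalKrullDim Z ≤ topologicalKrullDim X :=
  i.isClosedEmbedding.isEmbedding.isInducing.topologicalKrullDim_le

theorem nef'_of_ideals {L : X.Modules} (hL : PicF.IsInvertible L)
    (hnef : ∀ J : X.IdealSheafData, IsIntegral J.subscheme → topologicalKrullDim J.subscheme = 1 →
      0 ≤ @Curv2.deg k _ J.subscheme ⟨J.subschemeι ≫ (X ↘ (Spec (CommRingCat.of k)))⟩
        ((Scheme.Modules.pullback J.subschemeι).obj L) 1) : Nef' k L := by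
  intro Z i hi hZ hd
  haveI := hi
  let J := i.ker
  haveI : IsIso i.toImage := inferInstance
  let e : Z ≅ J.subscheme := asIso i.toImage
  haveI : Nonempty J.subscheme := ⟨e.hom (Classical.arbitrary Z)⟩
  haveI hJ : IsIntegral J.subscheme := isIntegral_of_isOpenImmersion e.inv
  have hdJ : topologicalKrullDim J.subscheme = 1 := by
    rw [← e.hom.homeomorph.isHomeomorph.topologicalKrullDim_eq]
    exact hd
  have h := hnef J hJ hdJ
  letI : Z.Over (Spec (CommRingCat.of k)) := ⟨i ≫ (X ↘ Spec (CommRingCat.of k))⟩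
  letI : J.subscheme.Over (Spec (CommRingCat.of k)) := ⟨J.subschemeι ≫ (X ↘ Spec (CommRingCat.of k))⟩
  show 0 ≤ Curv2.deg k Z ((Scheme.Modules.pullback i).obj L) 1
  have h' : 0 ≤ Curv2.deg k J.subscheme ((Scheme.Modules.pullback J.subschemeι).obj L) 1 := h
  rw [Curv2.deg, (euler_pullback k i rfl hL).1, (euler_pullback k i rfl hL).2]
  rw [Curv2.deg, (euler_pullback k J.subschemeι rfl hL).1, (euler_pullback k J.subschemeι rfl hL).2,
    Scheme.IdealSheafData.ker_subschemeι] at h'
  exact h'

variable (hdim : topologicalKrullDim X ≤ ((1 : ℕ) : WithBot ℕ∞))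

include hdim in
/-- Tensoring with a nef module does not lower the Euler characteristic. -/
theorem euler_le_tensor {L : X.Modules} (hL : PicF.IsInvertible L) (hnef : Nef' k L) {G : X.Modules}
    (hG : Coh.IsCoh G) : Curv2.euler k X G ≤ Curv2.euler k X (CohB1.tensorMod L G) := by
  haveI := CurvLib.isNoetherian k (X := X)
  obtain ⟨m, F, φ, h0, ⟨em⟩, hcoh, hstep⟩ := DevissLib.exists_filtration hG
  rw [← CurvLib.euler_congr (k := k) em, ← CurvLib.euler_congr (k := k) (SerreVanLib.tensorCongr L em)]
  suffices H : ∀ j ≤ m, Curv2.euler k X (F j) ≤ Curv2.euler k X (CohB1.tensorMod L (F j)) from H m le_rfl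
  intro j
  induction j with
  | zero =>
    intro _
    have hz : IsZero (CohB1.tensorMod L (F 0)) := (CurvLib.tensorLeft' L).map_isZero h0
    rw [CurvLib.euler_congr (k := k) (h0.iso hz)]
  | succ j ih =>
    intro hj
    obtain ⟨hmono, Z, i, hi, hZ, I, ι, hι, hI, hI0, ⟨eI⟩⟩ := hstep j hj
    haveI := hi
    haveI := hZ
    haveI := hmono
    let S : ShortComplex X.Modules := ShortComplex.mk (φ j) (cokernel.π (φ j)) (cokernel.condition _)
    have hS : S.ShortExact :=
      { exact := ShortComplex.exact_cokernel (φ j), mono_f := inferInstanceAs (Mono (φ j))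
        epi_g := inferInstanceAs (Epi (cokernel.π (φ j))) }
    have hF₁ := hcoh j (by omega)
    have hF₂ := hcoh (j + 1) hj
    have hC : Coh.IsCoh (cokernel (φ j)) := QCohLib.isCoh_cokernel (φ j) hF₁.1 hF₂
    have hT := HilbPolyLib.shortExact_tensor hL hS
    have e1 := CurvLib.euler_add_of_isCoh (k := k) hS hF₁ hF₂ hC
    have e2 := CurvLib.euler_add_of_isCoh (k := k) hT (HilbPolyLib.isCoh_tensor hL hF₁)
      (HilbPolyLib.isCoh_tensor hL hF₂) (HilbPolyLib.isCoh_tensor hL hC)
    change Curv2.euler k X (F (j + 1)) = Curv2.euler k X (F j) + Curv2.euler k X (cokernel (φ j)) at e1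
    change Curv2.euler k X (CohB1.tensorMod L (F (j + 1))) = Curv2.euler k X (CohB1.tensorMod L (F j)) +
      Curv2.euler k X (CohB1.tensorMod L (cokernel (φ j))) at e2
    suffices hp : Curv2.euler k X (cokernel (φ j)) ≤ Curv2.euler k X (CohB1.tensorMod L (cokernel (φ j))) by
      have := ih (by omega)
      omega
    have hIp : Coh.IsCoh ((Coh.push i).obj I) := QCohLib.isCoh_of_iso eI hC
    rw [CurvLib.euler_congr (k := k) eI, CurvLib.euler_congr (k := k) (SerreVanLib.tensorCongr L eI)]
    letI : Z.Over (Spec (CommRingCat.of k)) := ⟨i ≫ (X ↘ Spec (CommRingCat.of k))⟩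
    haveI : IsProper (Z ↘ Spec (CommRingCat.of k)) :=
      inferInstanceAs (IsProper (i ≫ (X ↘ Spec (CommRingCat.of k))))
    by_cases hd : topologicalKrullDim Z = 1
    · haveI := CurvLib.isNoetherian k (X := Z)
      haveI : Coh.IsQCoh I := hI
      have hIc : Coh.IsCoh I := DevissLib.isCoh_of_isCoh_push i _ hIp
      have hP := AmpleDevLib.isInvertible_pb i hL
      have hLf : FlatMod.IsFinLocFree L := CurveVBLib.isFinLocFree_of_rank (CurvLib.locFree_of_isInvertible hL)
      let pr : CohB1.tensorMod L ((Coh.push i).obj I) ≅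
          (Coh.push i).obj (CohB1.tensorMod ((Scheme.Modules.pullback i).obj L) I) :=
        @asIso _ _ _ _ (ProjFormLib.projApp i L I) (ProjFormLib.isIso_projApp i hLf I)
      haveI := (HilbPolyLib.isCoh_tensor hP hIc).1
      rw [CurvLib.euler_congr (k := k) pr, ← (PushLinLib.euler_push k i rfl _).2,
        ← (PushLinLib.euler_push k i rfl _).2]
      have hf := (CurvLib.eulerTensorFormula_of_isCoh (k := k) hd (CurvLib.locFree_of_isInvertible hP) I hIc).2
      have hdeg : 0 ≤ Curv2.deg k Z ((Scheme.Modules.pullback i).obj L) 1 := hnef Z i hi hZ hd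
      have hf' : Curv2.euler k Z (CohB1.tensorMod ((Scheme.Modules.pullback i).obj L) I) =
          (CurvLib.genRank I : ℤ) * Curv2.deg k Z ((Scheme.Modules.pullback i).obj L) 1 +
            (1 : ℕ) * Curv2.euler k Z I := hf
      rw [hf']
      have := mul_nonneg (Int.natCast_nonneg (CurvLib.genRank I)) hdeg
      push_cast
      omega
    · have hd0 : topologicalKrullDim Z ≤ 0 := by
        have hle : topologicalKrullDim Z ≤ ((1 : ℕ) : WithBot ℕ∞) := (topDim_le i).trans hdim
        exact ENat.WithBot.lt_add_one_iff.1 (by simpa using lt_of_le_of_ne hle (by simpa using hd))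
      have hs : topologicalKrullDim (CohB1.support ((Coh.push i).obj I)) ≤ 0 := by
        refine le_trans ?_ hd0
        rw [i.isClosedEmbedding.isEmbedding.toHomeomorph.isHomeomorph.topologicalKrullDim_eq]
        exact (Topology.IsEmbedding.inclusion (DevissLib.support_push_subset i I)).isInducing.topologicalKrullDim_le
      rw [CurvLib.euler_congr (k := k) (HilbPolyLib.swapIso L ((Coh.push i).obj I)),
        CurvLib.euler_tensor_locFree_of_dim_zero (k := k) hIp hs (CurvLib.locFree_of_isInvertible hL)]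
      push_cast
      omega

include hdim in
/-- Nonzero quotients of a nef module have sections when `H¹(O) = 0`. -/
theorem exists_section_quot (h1 : Subsingleton (Coh.HH X (Coh.structureModule X) 1)) {L : X.Modules}
    (hL : PicF.IsInvertible L) (hnef : Nef' k L) (T : X.Modules) (π : L ⟶ T) (hπ : Epi π) (hT : Coh.IsCoh T)
    (hne : ¬ IsZero T) : ∃ t : Γ(T, ⊤), t ≠ 0 := by
  haveI := CurvLib.isNoetherian k (X := X)
  haveI := hπ
  letI := LMLib.law X
  obtain ⟨M, hM, hMc⟩ := PicGrp.exists_eq_cls (PicGrp.cls L hL)⁻¹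
  obtain ⟨eLM⟩ := (PicGrp.cls_mul_cls_eq_one_iff hL hM).mp (by rw [← hMc, mul_inv_cancel])
  obtain ⟨eML⟩ := (PicGrp.cls_mul_cls_eq_one_iff hM hL).mp (by rw [← hMc, inv_mul_cancel])
  let G := CohB1.tensorMod M T
  let q : Coh.structureModule X ⟶ G := eML.inv ≫ (CurvLib.tensorLeft' M).map π
  haveI : Epi ((CurvLib.tensorLeft' M).map π) := (HilbPolyLib.shortExact_tensor hM (kernel_shortExact π)).epi_g
  haveI : Epi q := epi_comp _ _
  have hG : Coh.IsCoh G := HilbPolyLib.isCoh_tensor hM hT
  have hvan : ∀ N : X.Modules, Coh.IsQCoh N → Subsingleton (Coh.HH X N 2) := fun N _ =>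
    CurvLib.subsingleton_HH_of_dim_le N hdim 2 one_lt_two
  have hG1 : Subsingleton (Coh.HH X G 1) := h1_of_epi hvan QCohLib.isQCoh_unit hG.1 q h1
  let eT : CohB1.tensorMod L G ≅ T :=
    (SerreVanLib.tensorAssoc L M T).symm ≪≫ ((DCoh.tensorBi (X := X)).mapIso eLM).app T ≪≫
      KFlatLib.tensUnitIso T
  have hGne : ¬ IsZero G := fun hz => hne (((CurvLib.tensorLeft' L).map_isZero hz).of_iso eT.symm)
  have hq0 : q ≠ 0 := fun h => hGne (IsZero.of_epi_eq_zero q h)
  have hsec : Nontrivial (Coh.HH X G 0) := by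
    by_contra hs
    rw [not_nontrivial_iff_subsingleton] at hs
    haveI : Subsingleton Γ(G, ⊤) := (DegPullLib.e0 G).symm.toEquiv.subsingleton
    refine hq0 (Scheme.Modules.hom_ext _ _ fun U => ?_)
    ext r
    have h := (QCohLib.app_map q (homOfLE (le_top : U ≤ ⊤)) (1 : Γ(X, ⊤)))
    have h0 : q.app ⊤ (1 : Γ(X, ⊤)) = 0 := Subsingleton.elim _ _
    rw [h0, map_zero] at h
    have hr : (show Γ(Coh.structureModule X, U) from r) =
        (show Γ(X, U) from r) • (show Γ(Coh.structureModule X, U) from
          (Coh.structureModule X).presheaf.map (homOfLE (le_top : U ≤ ⊤)).op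
            (show Γ(Coh.structureModule X, ⊤) from (1 : Γ(X, ⊤)))) := by
      show r = (show Γ(X, U) from r) * X.presheaf.map (homOfLE (le_top : U ≤ ⊤)).op (1 : Γ(X, ⊤))
      rw [map_one, mul_one]
    rw [hr, QCohLib.app_smul, h, smul_zero]
    rfl
  haveI := CurvLib.finite_HH (k := k) hG 0
  have hT2 := CurvLib.euler_eq_sub (k := k) (M := T) fun n hn =>
    CurvLib.subsingleton_HH_of_dim_le T hdim n (by omega)
  have hG2 := CurvLib.euler_eq_sub (k := k) (M := G) fun n hn =>
    CurvLib.subsingleton_HH_of_dim_le G hdim n (by omega)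
  have hle := euler_le_tensor k hdim hL hnef hG
  rw [CurvLib.euler_congr (k := k) eT] at hle
  have hpos : 0 < Module.finrank k (Coh.HH X G 0) := Module.finrank_pos
  rw [Module.finrank_zero_of_subsingleton (R := k) (M := Coh.HH X G 1)] at hG2
  by_contra hc
  push Not at hc
  haveI : Subsingleton (Coh.HH X T 0) :=
    ⟨fun a b => (DegPullLib.e0 T).injective ((hc _).trans (hc _).symm)⟩
  rw [Module.finrank_zero_of_subsingleton (R := k) (M := Coh.HH X T 0)] at hT2
  omega

include hdim in
/-- **Lipman's theorem over a field.** -/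
theorem gg_and_h1 (h1 : Subsingleton (Coh.HH X (Coh.structureModule X) 1)) {L : X.Modules}
    (hL : PicF.IsInvertible L) (hnef : Nef' k L) :
    Curv2.IsGloballyGenerated L ∧ Subsingleton (Coh.HH X L 1) := by
  haveI := CurvLib.isNoetherian k (X := X)
  haveI : X.IsSeparated := ⟨by rw [← terminal.comp_from (X ↘ Spec (CommRingCat.of k))]; infer_instance⟩
  have hLc := CurvLib.isCoh_of_isInvertible hL
  have hvan : ∀ N : X.Modules, Coh.IsQCoh N → Subsingleton (Coh.HH X N 2) := fun N _ =>
    CurvLib.subsingleton_HH_of_dim_le N hdim 2 one_lt_two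
  have hgg := gg_of_sections hvan h1 hLc (exists_section_quot k hdim h1 hL hnef)
  exact ⟨hgg, h1_of_gg hvan h1 hLc.1 hgg⟩

end NefH1Lib
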