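import Groth.Agent.FieldDualLib.Basic
import Groth.Agent.CurveDualModLib.Bidual
import Groth.Agent.DualCxLib.SchGor
import Groth.Agent.CurvLib.Line
import Groth.Agent.CurvLib.RRBasic
import Groth.Agent.S1766
import Groth.Agent.S3637

/-!
# The invertible dualizing module of a Gorenstein integral curve
-/

set_option autoImplicit false
set_option linter.style.haveILetI false
set_option linter.unusedSectionVars false
set_option maxHeartbeats 1000000
set_option synthInstance.maxHeartbeats 200000
set_option backward.isDefEq.respectTransparency false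
set_option backward.isDefEq.respectTransparency.types false
universe u

open CategoryTheory CategoryTheory.Limits AlgebraicGeometry DerivedCategory
open Groth.Agent

attribute [local instance] HasDerivedCategory.standard

noncomputable section

namespace NefH1Lib

variable (k : Type u) [Field k] {X : Scheme.{u}} [X.Over (Spec (CommRingCat.of k))]
  [IsProper (X ↘ Spec (CommRingCat.of k))] [IsIntegral X] (hdim : topologicalKrullDim X = 1)

omit [X.Over (Spec (CommRingCat.of k))] [IsProper (X ↘ Spec (CommRingCat.of k))] [IsIntegral X] in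
/-- An invertible object concentrated in one degree, with nonzero stalks, is an invertible module there. -/
theorem isInvertible_of_isInvertibleD {K : DCoh.D X} (hK : Dual3.IsInvertibleD K) (i : ℤ)
    (hnt : ∀ x : X, Nontrivial ((DCoh.HD K i).presheaf.stalk x)) : PicF.IsInvertible (DCoh.HD K i) := by
  intro x
  obtain ⟨U, n, hxU, ⟨c⟩⟩ := hK x
  let S := (singleFunctor (U : Scheme.{u}).Modules 0).obj (Coh.structureModule (U : Scheme.{u}))
  let eS : S⟦n⟧ ≅ (singleFunctor (U : Scheme.{u}).Modules (-n)).obj (Coh.structureModule (U : Scheme.{u})) :=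
    ((singleFunctors (U : Scheme.{u}).Modules).shiftIso n (-n) 0 (by omega)).app _
  let e : (DCoh.HD K i).restrict U.ι ≅ (homologyFunctor (U : Scheme.{u}).Modules i).obj
      ((singleFunctor (U : Scheme.{u}).Modules (-n)).obj (Coh.structureModule (U : Scheme.{u}))) :=
    ((DerLib.ExactHomology.homologyIso (Scheme.Modules.restrictFunctor U.ι) i).app K).symm ≪≫
      (homologyFunctor _ i).mapIso (c ≪≫ eS)
  obtain rfl : i = -n := by
    by_contra hne
    have hz : IsZero ((DCoh.HD K i).restrict U.ι) := by
      refine IsZero.of_iso ?_ e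
      rcases lt_or_gt_of_ne hne with h | h
      · exact DerivedCategory.isZero_of_isGE _ (-n) i h
      · exact DerivedCategory.isZero_of_isLE _ (-n) i h
    have h0 : Subsingleton (((DCoh.HD K i).restrict U.ι).presheaf.stalk (⟨x, hxU⟩ : (U : Scheme.{u}))) :=
      (DCohRestrLib.isZero_iff_subsingleton_stalks _).1 hz _
    have e2 := ((Scheme.Modules.restrictStalkNatIso U.ι (⟨x, hxU⟩ : (U : Scheme.{u}))).app
      (DCoh.HD K i)).addCommGroupIsoToAddEquiv
    haveI := hnt x
    exact not_subsingleton ((DCoh.HD K i).presheaf.stalk x) (@Function.Injective.subsingleton _ _ _ e2.symm.injective h0)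
  exact ⟨U, hxU, ⟨e ≪≫ (singleFunctorCompHomologyFunctorIso _ (-n)).app _⟩⟩

include k hdim in
/-- A Gorenstein curve has an invertible dualizing module of degree minus twice `χ(O)`. -/
theorem exists_dualising_invertible (hgor : ∀ x : X, LocCoh.IsGorensteinLocalRing (X.presheaf.stalk x)) :
    ∃ ω : X.Modules, PicF.IsInvertible ω ∧
      Curv2.deg k X ω 1 = -2 * Curv2.euler k X (Coh.structureModule X) := by
  let f := X ↘ Spec (CommRingCat.of k)
  haveI : IsLocallyNoetherian X := LocallyOfFiniteType.isLocallyNoetherian f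
  haveI : CompactSpace X := QuasiCompact.compactSpace_of_compactSpace f
  haveI : QuasiSeparatedSpace X := quasiSeparatedSpace_of_quasiSeparated f
  haveI : AlgebraicGeometry.IsNoetherian X := ⟨⟩
  haveI : EnoughInjectives X.Modules := IsGrothendieckAbelian.enoughInjectives.{u}
  haveI : HasExt.{u} X.Modules := hasExt_of_enoughInjectives.{u} X.Modules
  haveI : ∀ (U V : Scheme.{u}) (j : U ⟶ V) [IsOpenImmersion j],
      PreservesFiniteLimits (Scheme.Modules.restrictFunctor j) := fun U V j _ => inferInstance
  haveI : ∀ (B : CommRingCat.{u}), PreservesFiniteLimits (tilde.functor B) := fun B =>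
    HensSchLib.tilde_preservesFiniteLimits B
  haveI : DCoh.HasRpush f := DCohRestrLib.hasRpush _
  have hf : DCoh.RpushPreservesQCoh f := fun K hK => QRlimLib.isQCohD_rpush _ hK
  haveI := Groth.Agent.S1766.result X (Spec (CommRingCat.of k)) f hf
  let a := (DCoh.RpushQ f hf).rightAdjoint
  let adj : DCoh.RpushQ f hf ⊣ a := Adjunction.ofIsLeftAdjoint (DCoh.RpushQ f hf)
  let O : DCoh.DQCoh (Spec (CommRingCat.of k)) :=
    ⟨DCoh.inD _ (Coh.structureModule _), PerfBaseLib.isQCohD_inD _ QCohLib.isQCoh_unit⟩
  have hd1 : topologicalKrullDim X = ((1 : ℕ) : WithBot ℕ∞) := by simpa using hdim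
  have hCM := CurveDualModLib.isCM_of_reduced (X := X) hd1.le
  have heq := CurveDualModLib.equidim_integral (X := X) hdim
  obtain ⟨hdual, -, -⟩ := Dual3Lib.amplitude f hf a adj O (Iso.refl _) 1 hd1.le
  have hinv : Dual3.IsInvertibleD (a.obj O).obj :=
    DualCxLib.isInvertibleD_of_gorenstein ⟨inferInstance, hgor⟩ hdual
  obtain ⟨-, -, hst⟩ := Groth.Agent.S3637.result k X f hCM 1 (fun Z hZ => by simpa using heq Z hZ) hf a adj O
    ⟨Iso.refl _⟩
  let ω := DCoh.HD (a.obj O).obj (-((1 : ℕ) : ℤ))
  have hω : PicF.IsInvertible ω := isInvertible_of_isInvertibleD hinv _ fun x => (hst x).1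
  obtain ⟨-, t, ht⟩ := FieldDualLib.exists_duality (k := k) hCM 1 (fun Z hZ => by simpa using heq Z hZ) hd1 hf a adj O
    (Iso.refl _)
  have key : ∀ j m : ℕ, j + m = 1 →
      Module.finrank k (Coh.HH X ω j) = Module.finrank k (Coh.HH X (Coh.structureModule X) m) := fun j m hjm => by
    haveI := CurvLib.finite_HH (k := k) (DevissLib.isCoh_structureModule X) m
    let e := (FieldDualLib.homEquivHH (k := k) ω j).symm ≪≫ₗ
      LinearEquiv.ofBijective _ (ht (Coh.structureModule X) QCohLib.isQCoh_unit j m (by omega)) ≪≫ₗ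
      (FieldDualLib.homEquivHH (k := k) (Coh.structureModule X) m).symm.dualMap
    exact e.finrank_eq.trans Subspace.dual_finrank_eq
  have h2 : Curv2.euler k X ω = - Curv2.euler k X (Coh.structureModule X) := by
    rw [CurvLib.euler_curve (k := k) hdim, CurvLib.euler_curve (k := k) hdim, key 0 1 rfl, key 1 0 rfl]
    ring
  refine ⟨ω, hω, ?_⟩
  rw [Curv2.deg, h2]
  push_cast
  ring

end NefH1Lib

end
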