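import Groth.Agent.NefH1Lib.Mult
import Groth.Agent.GenusZeroLib.Embed
import Groth.Agent.AmpleThLib.VeryAmple
import Groth.Agent.CurveAmpLib.Affine

/-!
# Very ampleness of ample modules when `H¹(O) = 0`
-/

set_option autoImplicit false
set_option linter.style.haveILetI false
set_option backward.isDefEq.respectTransparency false
set_option backward.isDefEq.respectTransparency.types false
set_option maxHeartbeats 1000000
universe u

open CategoryTheory CategoryTheory.Limits AlgebraicGeometry TopologicalSpace Opposite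
open HomogeneousLocalization AmpleLib
open TwistLib (genSet)
open AmpleThLib

noncomputable section

namespace NefH1Lib

variable {X : Scheme.{u}} {R : Type u} [CommRing R] (q : X ⟶ Spec (CommRingCat.of R))

/-- A scalar as a global function. -/
abbrev gl (r : R) : Γ(X, ⊤) := Coh.toGlobal q r

theorem toGlobal_res (r : R) (V : X.Opens) :
    X.presheaf.map (homOfLE (le_top : V ≤ ⊤)).op (gl q r) =
      q.appLE ⊤ V le_top ((Scheme.ΓSpecIso (CommRingCat.of R)).inv r) := by
  rfl

theorem shT_smul_left {M N : X.Modules} {W : X.Opens} (r : Γ(X, W)) (m : Γ(M, W)) (n : Γ(N, W)) :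
    shT (r • m) n = r • shT m n := by
  have := AmpleLib.shT_smul r 1 m n
  rwa [one_smul, mul_one] at this

variable [IsProper q] {L : X.Modules} (hL : PicF.IsInvertible L) {m : ℕ} (v : Fin (m + 1) → Γ(L, ⊤))
  (hspan : ∀ σ : Γ(L, ⊤), ∃ c : Fin (m + 1) → R, σ = ∑ l, gl q (c l) • v l)
  (hmul : ∀ (n : ℕ) (τ : Γ(CohB1.tensorPow L (n + 1), ⊤)),
    ∃ u : Fin (m + 1) → Γ(CohB1.tensorPow L n, ⊤),
      τ = ∑ l, (shT (u l) (v l) : Γ(CohB1.tensorMod (CohB1.tensorPow L n) L, ⊤)))

include hspan hmul in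
/-- Every function on the locus of `v k` is a polynomial in the ratios. -/
theorem closure_eq_top (k : Fin (m + 1)) :
    Subring.closure (Set.range (q.appLE ⊤ (genSet hL (v k)) le_top) ∪
      {c | ∃ l, c • res L (le_top : genSet hL (v k) ≤ ⊤) (v k) = res L le_top (v l)}) = ⊤ := by
  haveI : CompactSpace X := QuasiCompact.compactSpace_of_compactSpace q
  haveI : QuasiSeparatedSpace X := quasiSeparatedSpace_of_quasiSeparated q
  let V := genSet hL (v k)
  let s := v k
  let S := Subring.closure (Set.range (q.appLE ⊤ V le_top) ∪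
      {c | ∃ l, c • res L (le_top : V ≤ ⊤) s = res L le_top (v l)})
  have hsV : GenOn L (res L (le_top : V ≤ ⊤) s) :=
    TwistLib.genOn_of_genAt fun x hx => (genAt_res le_top s hx).mpr hx
  have hcoef : ∀ l, ∃ c ∈ S, c • res L (le_top : V ≤ ⊤) s = res L le_top (v l) := fun l => by
    obtain ⟨c, hc⟩ := (hsV V le_rfl).2 (res L le_top (v l))
    dsimp only at hc
    rw [AmpleLib.res_refl] at hc
    exact ⟨c, Subring.subset_closure (Or.inr ⟨l, hc⟩), hc⟩
  choose cl hclS hcl using hcoef
  have hS1 : ∀ t : Γ(L, ⊤), ∃ a ∈ S, a • res L (le_top : V ≤ ⊤) s = res L le_top t := fun t => by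
    obtain ⟨c, hc⟩ := hspan t
    refine ⟨∑ l, X.presheaf.map (homOfLE (le_top : V ≤ ⊤)).op (gl q (c l)) * cl l,
      sum_mem fun l _ => S.mul_mem (Subring.subset_closure (Or.inl ⟨_, (toGlobal_res q (c l) V).symm⟩)) (hclS l), ?_⟩
    rw [hc, Finset.sum_smul]
    refine Eq.trans ?_ (map_sum (L.presheaf.map (homOfLE (le_top : V ≤ ⊤)).op).hom _ _).symm
    refine Finset.sum_congr rfl fun l _ => ?_
    refine Eq.trans ?_ (res_smul L le_top (gl q (c l)) (v l)).symm
    rw [mul_smul, hcl]
  have hmem : ∀ (n : ℕ) (τ : Γ(CohB1.tensorPow L n, ⊤)),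
      ∃ c ∈ S, c • pS (res L (le_top : V ≤ ⊤) s) n = res (CohB1.tensorPow L n) le_top τ := by
    intro n
    induction n with
    | zero =>
      intro τ
      let b : Γ(X, ⊤) := τ
      obtain ⟨a, ha, ha'⟩ := hS1 (b • s)
      refine ⟨a, ha, ?_⟩
      have h1 : a = X.presheaf.map (homOfLE (le_top : V ≤ ⊤)).op b := by
        refine (hsV V le_rfl).1 ?_
        dsimp only
        rw [AmpleLib.res_refl, ha', AmpleLib.res_smul]
      show a * (1 : Γ(X, V)) = X.presheaf.map (homOfLE (le_top : V ≤ ⊤)).op b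
      rw [mul_one, h1]
    | succ n ih =>
      intro τ
      obtain ⟨u, rfl⟩ := hmul n τ
      choose e he he' using fun l => ih (u l)
      refine ⟨∑ l, e l * cl l, sum_mem fun l _ => S.mul_mem (he l) (hclS l), ?_⟩
      refine Eq.trans ?_ (map_sum ((CohB1.tensorMod (CohB1.tensorPow L n) L).presheaf.map
        (homOfLE (le_top : V ≤ ⊤)).op).hom _ _).symm
      rw [Finset.sum_smul]
      refine Finset.sum_congr rfl fun l _ => ?_
      refine Eq.trans ?_ (shT_res le_top (u l) (v l)).symm
      exact (AmpleLib.shT_smul _ _ _ _).symm.trans (congrArg₂ shT (he' l) (hcl l))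
  let V' := genSet (tensorPow_isInvertible hL 1) (pS s 1)
  have hVV : V' = V := genSet_pS hL s Nat.one_pos
  rw [eq_top_iff]
  rintro f -
  obtain ⟨N, hN⟩ := exists_extend hL (pS s 1) (r := 0)
    (show Γ(CohB1.tensorPow L 0, V') from X.presheaf.map (homOfLE hVV.le).op f)
  obtain ⟨u, hu⟩ := hN N le_rfl
  obtain ⟨c, hc, hc'⟩ := hmem _ u
  suffices f = c by rw [this]; exact hc
  refine (pS_genOn hsV (0 + 1 * N) V le_rfl).1 ?_
  dsimp only
  rw [AmpleLib.res_refl, hc']
  have h2 := congrArg (res _ hVV.ge) hu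
  rw [res_res] at h2
  rw [h2]
  have hone : (1 : Γ(X, V)) • pS (res L (le_top : V ≤ ⊤) s) 1 = res _ le_top (pS s 1) := by
    rw [one_smul, pS_res]
  have h3 := tPow_coeff hL (pS s 1) hsV hone N
  have h4 : res (CohB1.tensorPow L 0) hVV.ge
      (show Γ(CohB1.tensorPow L 0, V') from X.presheaf.map (homOfLE hVV.le).op f) =
      f • pS (res L (le_top : V ≤ ⊤) s) 0 := by
    refine Eq.trans ?_ (mul_one f).symm
    exact (AmpleLib.res_res (Coh.structureModule X) hVV.le hVV.ge f).trans
      (AmpleLib.res_refl (M := Coh.structureModule X) f)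
  rw [mul_res, res_res, ← h3, h4, mul_coeff hL hsV, one_pow, mul_one]

include hspan hmul in
/-- The sections define a closed immersion into projective space over the base. -/
theorem exists_closedImmersion (hA : CohB1.IsAmple L) (hcov : ∀ x : X, ∃ j, x ∈ genSet hL (v j)) :
    ∃ r : X ⟶ Proj (CohB1.polyGrading m R), IsClosedImmersion r ∧ r ≫ baseA (CohB1.polyGrading m R) = q ∧
      Nonempty ((Scheme.Modules.pullback r).obj (Twist.twist (CohB1.polyGrading m R) ((1 : ℕ) : ℤ)) ≅ L) := by
  obtain ⟨r, hrb, hpre, hcoef, hτ⟩ := GenusZeroLib.exists_toPA_iso q hL v hcov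
  let p := baseA (CohB1.polyGrading m R)
  have : IsProper (r ≫ p) := by rw [hrb]; infer_instance
  have : IsSeparated p := by simp only [p, baseA]; infer_instance
  have : IsProper r := IsProper.of_comp r p
  refine ⟨r, ?_, hrb, hτ⟩
  have : IsImmersion r := by
    refine isImmersion_of_local r
      (fun j => Proj.basicOpen (CohB1.polyGrading m R) (MvPolynomial.X j)) (fun x => ?_) (fun j => ?_)
    · obtain ⟨j, hx⟩ := hcov x
      exact ⟨j, (hpre j).ge hx⟩
    · let D := Proj.basicOpen (CohB1.polyGrading m R) (MvPolynomial.X j)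
      have : IsAffine (r ⁻¹ᵁ D).toScheme := (hpre j).symm ▸ CurveAmpLib.isAffineOpen_genSet q hL hA (v j)
      have : IsAffine D.toScheme :=
        Proj.isAffineOpen_basicOpen _ _ (MvPolynomial.isHomogeneous_X R j) one_pos
      refine IsClosedImmersion.of_surjective_of_isAffine _ ?_
      rw [Scheme.Hom.appTop, morphismRestrict_app']
      refine surjective_appLE_congr r D.ι_image_top.symm
        ((hpre j).symm.trans (Scheme.Opens.ι_image_top _).symm) (hpre j).ge _ ?_
      intro a
      suffices h : a ∈ (r.appLE D _ (hpre j).ge).hom.range from h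
      refine (show Subring.closure _ ≤ _ from Subring.closure_le.mpr ?_)
        ((closure_eq_top q hL v hspan hmul j).ge (Subring.mem_top a))
      rintro _ (⟨y, rfl⟩ | ⟨l, hl⟩)
      · refine ⟨p.appLE ⊤ D le_top y, ?_⟩
        rw [← CommRingCat.comp_apply, Scheme.Hom.appLE_comp_appLE]
        simp only [p, hrb]
      · refine ⟨Proj.awayToSection (CohB1.polyGrading m R) (MvPolynomial.X j)
          (TwistLib.frac (CohB1.polyGrading m R) (MvPolynomial.isHomogeneous_X R j)
            (MvPolynomial.isHomogeneous_X R l)), ?_⟩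
        refine (TwistLib.genSet_genOn hL (v j) _ le_rfl).1 ?_
        dsimp only
        rw [res_res, hl]
        have h1 := congrArg (res _ (hpre j).ge) (hcoef j l)
        rw [res_smul, res_res, res_res] at h1
        refine Eq.trans ?_ h1
        congr 1
  exact IsClosedImmersion.of_isPreimmersion r r.isClosedMap.isClosed_range

include hspan hmul in
/-- The sections make `L` relatively very ample. -/
theorem isRelVeryAmplePn (hA : CohB1.IsAmple L) (hcov : ∀ x : X, ∃ j, x ∈ genSet hL (v j)) :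
    RelAmple.IsRelVeryAmplePn q L :=
  AmpleThLib.exists_immersion q hL v Set.univ (fun x => (hcov x).imp fun j hj => ⟨Set.mem_univ j, hj⟩)
    (fun j _ => CurveAmpLib.isAffineOpen_genSet q hL hA (v j))
    fun j _ => closure_eq_top q hL v hspan hmul j

/-- Spanning finite families of sections exist. -/
theorem exists_span [IsNoetherianRing R] (hLc : Coh.IsCoh L) :
    ∃ (m : ℕ) (v : Fin (m + 1) → Γ(L, ⊤)),
      ∀ σ : Γ(L, ⊤), ∃ c : Fin (m + 1) → R, σ = ∑ l, gl q (c l) • v l := by
  classical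
  letI := Module.compHom (Coh.HH X L 0) (Coh.toGlobal q)
  haveI : Module.Finite R (Coh.HH X L 0) := AtlasCoh.finiteCoh_of_isProper q L hLc 0
  obtain ⟨m, w, hw⟩ := Module.Finite.exists_fin (R := R) (M := Coh.HH X L 0)
  refine ⟨m, Fin.cons 0 fun l => DegPullLib.e0 L (w l), fun σ => ?_⟩
  obtain ⟨c, hc⟩ := (Submodule.mem_span_range_iff_exists_fun R).1
    (hw.ge (Submodule.mem_top : (DegPullLib.e0 L).symm σ ∈ _))
  refine ⟨Fin.cons 0 c, ?_⟩
  rw [Fin.sum_univ_succ]
  simp only [Fin.cons_zero, Fin.cons_succ, smul_zero, zero_add]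
  rw [← (DegPullLib.e0 L).apply_symm_apply σ, ← hc, map_sum]
  exact Finset.sum_congr rfl fun l _ => DegPullLib.e0_smul L _ _

/-- Generating loci of a spanning family cover. -/
theorem cover_of_span {X : Scheme.{u}} {L : X.Modules} (hL : PicF.IsInvertible L)
    (hgg : Curv2.IsGloballyGenerated L) {m : ℕ} (v : Fin (m + 1) → Γ(L, ⊤))
    (hspan : ∀ σ : Γ(L, ⊤), ∃ c : Fin (m + 1) → Γ(X, ⊤), σ = ∑ l, c l • v l) :
    ∀ x : X, ∃ j, x ∈ genSet hL (v j) := fun x => by
  obtain ⟨σ, hσ⟩ := Groth.Agent.S1611.exists_genAt_of_gg hL hgg x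
  refine TwistLib.exists_genAt_of_generatedBy hL v x (eq_top_iff.mpr ?_)
  rw [← TwistLib.span_of_genAt L (fun _ : Unit => σ) x (k := ()) hσ, Submodule.span_le]
  rintro _ ⟨-, rfl⟩
  obtain ⟨c, hc⟩ := hspan σ
  rw [hc]
  show (L.presheaf.germ ⊤ x trivial).hom (∑ l, c l • v l) ∈ _
  rw [map_sum]
  refine Submodule.sum_mem _ fun l _ => ?_
  rw [show (L.presheaf.germ ⊤ x trivial).hom (c l • v l) =
      X.presheaf.germ ⊤ x trivial (c l) • L.presheaf.germ ⊤ x trivial (v l) from
    AmpleLib.germ_smul L (W := ⊤) (c l) (v l) trivial]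
  exact Submodule.smul_mem _ _ (Submodule.subset_span ⟨l, rfl⟩)

end NefH1Lib
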