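import Groth.Agent.NefH1Lib.Core
import Groth.Agent.HilbPolyLib.Basic
import Groth.Agent.SerreVanLib.CurveAmple
import Groth.Agent.S1611
import Groth.Agent.MiscFlat6.TensorGG
import Groth.Agent.ModSiteLib.Flat

/-!
# Multiplication of sections when `H¹(O) = 0`
-/

set_option autoImplicit false
set_option linter.style.haveILetI false
set_option maxHeartbeats 1000000
set_option backward.isDefEq.respectTransparency false
set_option backward.isDefEq.respectTransparency.types false
universe u

open CategoryTheory CategoryTheory.Limits AlgebraicGeometry TopologicalSpace Opposite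
open QCohLib
open AmpleLib (shT res)
open TwistLib (genSet)

noncomputable section

namespace NefH1Lib

variable {X : Scheme.{u}}

/-- `H¹` of the kernel, from surjectivity on `H⁰`. -/
theorem h1_left {S : ShortComplex X.Modules} (hS : S.ShortExact) (h2 : Subsingleton (Coh.HH X S.X₂ 1))
    (hg : Function.Surjective (LichtLib.hm S.g 0)) : Subsingleton (Coh.HH X S.X₁ 1) :=
  subsingleton_of_forall_eq 0 fun y => by
    obtain ⟨z, rfl⟩ := AtlasCoh.hExact₁ (QCohLib.toAbF_shortExact hS) 0 y (h2.elim _ _)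
    obtain ⟨x, rfl⟩ := hg z
    exact (Abelian.Ext.comp_assoc_of_second_deg_zero ..).trans
      ((congrArg (fun e => Abelian.Ext.comp x e rfl) (QCohLib.toAbF_shortExact hS).comp_extClass).trans
        (Abelian.Ext.comp_zero ..))

theorem h1_iso {M N : X.Modules} (e : M ≅ N) (h : Subsingleton (Coh.HH X M 1)) : Subsingleton (Coh.HH X N 1) :=
  (LichtLib.hm_bijective e.hom 1).2.subsingleton

theorem hm_add {M N : X.Modules} (φ ψ : M ⟶ N) (p : ℕ) (x : Coh.HH X M p) :
    LichtLib.hm (φ + ψ) p x = LichtLib.hm φ p x + LichtLib.hm ψ p x := by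
  refine (congrArg (fun a => Sheaf.H.map a p x) ((SheafOfModules.toSheaf X.ringCatSheaf).map_add)).trans ?_
  show Abelian.Ext.comp x (Abelian.Ext.mk₀ (_ + _)) (add_zero p) = _
  rw [Abelian.Ext.mk₀_add, Abelian.Ext.comp_add]
  rfl

theorem app_finsum {M N : X.Modules} {ι : Type*} (t : Finset ι) (f : ι → (M ⟶ N)) (U : X.Opens) (x : Γ(M, U)) :
    (∑ i ∈ t, f i).app U x = ∑ i ∈ t, (f i).app U x := by
  classical
  induction t using Finset.induction_on with
  | empty => simp only [Finset.sum_empty]; rfl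
  | insert a t ha ih =>
    rw [Finset.sum_insert ha, Finset.sum_insert ha, ← ih]
    rfl

variable [CompactSpace X] [X.IsSeparated] [IsLocallyNoetherian X]
  (hvan : ∀ N : X.Modules, Coh.IsQCoh N → Subsingleton (Coh.HH X N 2))
  (h1 : Subsingleton (Coh.HH X (Coh.structureModule X) 1))

omit [IsLocallyNoetherian X] in
theorem isQCoh_tensor {M L : X.Modules} (hM : Coh.IsQCoh M) (hL : PicF.IsInvertible L) :
    Coh.IsQCoh (CohB1.tensorMod M L) :=
  haveI := hM
  MiscFlat6.isQCoh_tensor hL

include hvan in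
/-- Twists of modules without `H¹` by generated invertible modules have no `H¹`. -/
theorem h1_tensor_gg {M L : X.Modules} (hM : Coh.IsQCoh M) (hM1 : Subsingleton (Coh.HH X M 1))
    (hL : PicF.IsInvertible L) (hgg : Curv2.IsGloballyGenerated L) :
    Subsingleton (Coh.HH X (CohB1.tensorMod M L) 1) := by
  obtain ⟨ι, p₀, hp⟩ := hgg
  let p : freeM X ι ⟶ L := p₀
  haveI : Epi p := hp
  let T : X.Modules ⥤ X.Modules := (DCoh.tensorBi (X := X)).obj M
  haveI : PreservesColimitsOfSize.{u, u} T := ModSiteLib.preservesColimits_tensor X.sheaf M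
  let e : T.obj (freeM X ι) ≅ ∐ fun _ : ι => T.obj (Coh.structureModule X) :=
    PreservesCoproduct.iso T fun _ : ι => Coh.structureModule X
  have hO : T.obj (Coh.structureModule X) ≅ M := KFlatLib.tensSwap (Coh.structureModule X) M ≪≫ KFlatLib.tensUnitIso M
  haveI : Coh.IsQCoh (T.obj (Coh.structureModule X)) := QCohLib.isQCoh_of_iso hO.symm
  have hq : Coh.IsQCoh (∐ fun _ : ι => T.obj (Coh.structureModule X)) :=
    QCohLib.isQCoh_sigma _ fun _ => inferInstance
  have h : Subsingleton (Coh.HH X (∐ fun _ : ι => T.obj (Coh.structureModule X)) 1) :=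
    AmpleAffLib.subsingleton_HH_sigma (F := fun _ : ι => T.obj (Coh.structureModule X))
      (fun _ => inferInstance) fun _ => h1_iso hO.symm hM1
  haveI : Epi (e.inv ≫ T.map p) := epi_comp _ _
  exact h1_of_epi hvan hq (isQCoh_tensor hM hL) (e.inv ≫ T.map p) h

include hvan in
theorem h1_tensor_pow {M L : X.Modules} (hM : Coh.IsQCoh M) (hM1 : Subsingleton (Coh.HH X M 1))
    (hL : PicF.IsInvertible L) (hgg : Curv2.IsGloballyGenerated L) :
    ∀ n : ℕ, Subsingleton (Coh.HH X (CohB1.tensorMod M (CohB1.tensorPow L n)) 1)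
  | 0 => h1_iso (KFlatLib.tensSwap (Coh.structureModule X) M ≪≫ KFlatLib.tensUnitIso M).symm hM1
  | n + 1 => h1_iso (SerreVanLib.tensorAssoc M (CohB1.tensorPow L n) L)
      (h1_tensor_gg hvan (isQCoh_tensor hM (AmpleThLib.tensorPow_isInvertible hL n))
        (h1_tensor_pow hM hM1 hL hgg n) hL hgg)

/-- The module with one copy of `O` for each of `m` sections. -/
abbrev freeFin (X : Scheme.{u}) (m : ℕ) : X.Modules := ⨁ fun _ : Fin m => Coh.structureModule X

/-- The morphism given by sections. -/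
def combHom {L : X.Modules} {m : ℕ} (v : Fin m → Γ(L, ⊤)) : freeFin X m ⟶ L :=
  biproduct.desc fun l => unitHom L (v l)

omit [CompactSpace X] [X.IsSeparated] [IsLocallyNoetherian X] in
theorem epi_combHom {L : X.Modules} (hgg : Curv2.IsGloballyGenerated L) {m : ℕ} (v : Fin m → Γ(L, ⊤))
    (hspan : ∀ σ : Γ(L, ⊤), ∃ c : Fin m → Γ(X, ⊤), σ = ∑ l, c l • v l) : Epi (combHom v) := by
  classical
  obtain ⟨ι, p₀, hp⟩ := hgg
  let p : freeM X ι ⟶ L := p₀
  haveI : Epi p := hp
  have hfac : ∀ i : ι, ∃ g : Coh.structureModule X ⟶ freeFin X m,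
      g ≫ combHom v = Sigma.ι (fun _ : ι => Coh.structureModule X) i ≫ p := fun i => by
    let g₀ : Coh.structureModule X ⟶ L := Sigma.ι (fun _ : ι => Coh.structureModule X) i ≫ p
    obtain ⟨c, hc⟩ := hspan (g₀.app ⊤ (1 : Γ(X, ⊤)))
    refine ⟨∑ l, unitHom (Coh.structureModule X) (c l) ≫ biproduct.ι (fun _ : Fin m => Coh.structureModule X) l, ?_⟩
    rw [Preadditive.sum_comp]
    refine Scheme.Modules.hom_ext _ _ fun U => ?_
    ext r
    simp only [Category.assoc, combHom, biproduct.ι_desc]
    rw [app_finsum]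
    have h2 : g₀.app U r = (show Γ(X, U) from r) • L.presheaf.map (homOfLE (le_top : U ≤ ⊤)).op
        (g₀.app ⊤ (1 : Γ(X, ⊤))) := by
      rw [← QCohLib.app_map, ← QCohLib.app_smul]
      refine congrArg (g₀.app U) ?_
      show r = (show Γ(X, U) from r) * X.presheaf.map (homOfLE (le_top : U ≤ ⊤)).op (1 : Γ(X, ⊤))
      rw [map_one, mul_one]
    refine Eq.trans ?_ h2.symm
    rw [hc, map_sum, Finset.smul_sum]
    refine Finset.sum_congr rfl fun l _ => ?_
    show (unitHom L (v l)).app U ((unitHom (Coh.structureModule X) (c l)).app U r) = _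
    rw [unitHom_app, unitHom_app, QCohLib.map_smul', smul_smul]
    rfl
  choose g hg using hfac
  haveI : Epi (Sigma.desc g ≫ combHom v) := by
    have : Sigma.desc g ≫ combHom v = p := Sigma.hom_ext _ _ fun i => by
      rw [Sigma.ι_desc_assoc]; exact hg i
    rw [this]; exact hp
  exact epi_of_epi (Sigma.desc g) (combHom v)

omit [CompactSpace X] [X.IsSeparated] [IsLocallyNoetherian X] in
/-- The value of a morphism from a sum of copies of `O`. -/
theorem combHom_app {L : X.Modules} {m : ℕ} (v : Fin m → Γ(L, ⊤)) (c : Fin m → Γ(X, ⊤)) :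
    (combHom v).app ⊤ (∑ l, (biproduct.ι (fun _ : Fin m => Coh.structureModule X) l).app ⊤ (c l)) =
      ∑ l, c l • v l := by
  rw [map_sum]
  refine Finset.sum_congr rfl fun l _ => ?_
  rw [← ConcreteCategory.comp_apply, ← Scheme.Modules.Hom.comp_app, combHom, biproduct.ι_desc, unitHom_app]
  exact congrArg (c l • ·) (AmpleLib.res_refl L _)

include hvan h1 in
/-- Multiplication by a spanning family of sections is surjective on all powers. -/
theorem mul_surjective {L : X.Modules} (hL : PicF.IsInvertible L) (hgg : Curv2.IsGloballyGenerated L) {m : ℕ}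
    (v : Fin m → Γ(L, ⊤)) (hspan : ∀ σ : Γ(L, ⊤), ∃ c : Fin m → Γ(X, ⊤), σ = ∑ l, c l • v l) (n : ℕ)
    (τ : Γ(CohB1.tensorPow L (n + 1), ⊤)) :
    ∃ u : Fin m → Γ(CohB1.tensorPow L n, ⊤),
      τ = ∑ l, (shT (u l) (v l) : Γ(CohB1.tensorMod (CohB1.tensorPow L n) L, ⊤)) := by
  classical
  haveI := epi_combHom hgg v hspan
  let P := CohB1.tensorPow L n
  have hP : PicF.IsInvertible P := AmpleThLib.tensorPow_isInvertible hL n
  have hLq := (CurvLib.isCoh_of_isInvertible hL).1
  have hE : Coh.IsQCoh (freeFin X m) := by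
    haveI : Coh.IsQCoh (∐ fun _ : Fin m => Coh.structureModule X) :=
      haveI := QCohLib.isQCoh_sigma (fun _ : ULift.{u} (Fin m) => Coh.structureModule X) fun _ => QCohLib.isQCoh_unit
      QCohLib.isQCoh_of_iso ((Sigma.whiskerEquiv (f := fun _ : ULift.{u} (Fin m) => Coh.structureModule X)
        (g := fun _ : Fin m => Coh.structureModule X) Equiv.ulift (fun _ => Iso.refl _)))
    exact QCohLib.isQCoh_of_iso (biproduct.isoCoproduct _).symm
  have hK : Coh.IsQCoh (kernel (combHom v)) := isQCoh_kernel_epi _ hE hLq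
  have hE1 : Subsingleton (Coh.HH X (freeFin X m) 1) :=
    subsingleton_of_forall_eq 0 fun x => by
      have hid : ∀ t : Finset (Fin m), LichtLib.hm (∑ l ∈ t, biproduct.π (fun _ : Fin m => Coh.structureModule X) l ≫
          biproduct.ι (fun _ : Fin m => Coh.structureModule X) l) 1 x = 0 := fun t => by
        induction t using Finset.induction_on with
        | empty => rw [Finset.sum_empty]; exact LichtLib.hm_zero _ _ 1 x
        | insert a t ha ih =>
          rw [Finset.sum_insert ha, hm_add, ih, add_zero, LichtLib.hm_comp,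
            h1.elim (LichtLib.hm (biproduct.π (fun _ : Fin m => Coh.structureModule X) a) 1 x) 0, map_zero]
      have h := hid Finset.univ
      rwa [biproduct.total, LichtLib.hm_id] at h
  have hS := kernel_shortExact (combHom v)
  have hsurj : Function.Surjective (LichtLib.hm (combHom v) 0) := fun z => by
    obtain ⟨c, hc⟩ := hspan (DegPullLib.e0 L z)
    refine ⟨(DegPullLib.e0 (freeFin X m)).symm
      (∑ l, (biproduct.ι (fun _ : Fin m => Coh.structureModule X) l).app ⊤ (c l)), (DegPullLib.e0 L).injective ?_⟩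
    rw [e0_map, AddEquiv.apply_symm_apply, combHom_app, hc]
  have hK1 : Subsingleton (Coh.HH X (kernel (combHom v)) 1) := h1_left hS hE1 hsurj
  have hT := HilbPolyLib.shortExact_tensor hP hS
  have hTK : Subsingleton (Coh.HH X (CohB1.tensorMod P (kernel (combHom v))) 1) :=
    h1_iso (KFlatLib.tensSwap _ _) (h1_tensor_pow hvan hK hK1 hL hgg n)
  obtain ⟨y, hy⟩ := LichtLib.surjective_g hT hTK ((DegPullLib.e0 (CohB1.tensorMod P L)).symm τ)
  let T : X.Modules ⥤ X.Modules := (DCoh.tensorBi (X := X)).obj P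
  let z : Γ(T.obj (freeFin X m), ⊤) := DegPullLib.e0 _ y
  have hz : (T.map (combHom v)).app ⊤ z = τ :=
    (e0_map (T.map (combHom v)) y).symm.trans ((congrArg (DegPullLib.e0 _) hy).trans (AddEquiv.apply_symm_apply _ _))
  obtain ⟨μ, hμ, hμ'⟩ := SerreVanLib.exists_unit_iso P
  let w : Fin m → Γ(P, ⊤) := fun l =>
    μ.app ⊤ ((T.map (biproduct.π (fun _ : Fin m => Coh.structureModule X) l)).app ⊤ z)
  refine ⟨w, ?_⟩
  have hdec : T.map (combHom v) = ∑ l : Fin m, T.map (biproduct.π (fun _ : Fin m => Coh.structureModule X) l) ≫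
      T.map (unitHom L (v l)) := by
    haveI : T.Additive := inferInstance
    rw [combHom, biproduct.desc_eq, Functor.map_sum]
    exact Finset.sum_congr rfl fun l _ => T.map_comp _ _
  rw [← hz, hdec, app_finsum]
  refine Finset.sum_congr rfl fun l _ => ?_
  show (T.map (unitHom L (v l))).app ⊤
    ((T.map (biproduct.π (fun _ : Fin m => Coh.structureModule X) l)).app ⊤ z) = _
  have h2 : ∀ a : Γ(CohB1.tensorMod P (Coh.structureModule X), ⊤),
      a = shT (μ.app ⊤ a) (show Γ(Coh.structureModule X, ⊤) from (1 : Γ(X, ⊤))) := fun a => by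
    haveI := hμ
    refine (ConcreteCategory.bijective_of_isIso (μ.app ⊤)).1 ?_
    exact ((hμ' ⊤ _ _).trans (one_smul Γ(X, ⊤) _)).symm
  rw [h2 ((T.map (biproduct.π (fun _ : Fin m => Coh.structureModule X) l)).app ⊤ z)]
  refine (KFlatLib.tensorBi_map₂_shTm P (unitHom L (v l)) _ _).trans (congrArg (shT (w l)) ?_)
  rw [unitHom_app, one_smul]
  exact AmpleLib.res_refl L _

end NefH1Lib
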