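import Groth.Agent.NefH1Lib.Koszul
import Groth.Agent.IntMultLib.Positive
import Groth.Agent.CurvLib.Divisor
import Groth.Agent.CurvLib.Finite0
import Groth.Agent.MiscFlat6.AmpleGen
import Groth.Agent.HilbPolyLib.Pos

/-!
# Powers of an invertible module with a regular section
-/

set_option autoImplicit false
set_option linter.style.haveILetI false
set_option maxHeartbeats 2000000
set_option backward.isDefEq.respectTransparency false
set_option backward.isDefEq.respectTransparency.types false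
universe u

open CategoryTheory CategoryTheory.Limits AlgebraicGeometry TopologicalSpace Opposite
open QCohLib
open AmpleLib (shT res GenOn GenAt)
open TwistLib (genSet)
open DevissLib (St gm)

noncomputable section

namespace NefH1Lib

variable {X : Scheme.{u}}

theorem exists_generization {L : X.Modules} (hL : PicF.IsInvertible L) (σ : Γ(L, ⊤)) [Mono (unitHom L σ)]
    {x : X} (hx : x ∉ genSet hL σ) : ∃ η : X, η ⤳ x ∧ η ≠ x := by
  obtain ⟨U₀, e₀, hx₀, he₀⟩ := TwistLib.exists_genOn hL x
  obtain ⟨U, hU, hxU, hle⟩ := exists_isAffineOpen_mem_and_subset hx₀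
  let e := res L (show U ≤ U₀ from hle) e₀
  have he : GenOn L e := he₀.res _
  obtain ⟨f, hfe⟩ := (he U le_rfl).2 (res L (le_top : U ≤ ⊤) σ)
  dsimp only at hfe
  rw [AmpleLib.res_refl] at hfe
  have hf : f ∈ nonZeroDivisors Γ(X, U) := by
    refine mem_nonZeroDivisors_iff_right.2 fun r hr => ?_
    refine QCohLib.app_injective_of_mono (unitHom L σ) U ?_
    rw [map_zero, unitHom_app]
    show (show Γ(X, U) from r) • res L (le_top : U ≤ ⊤) σ = 0
    rw [← hfe, smul_smul, hr, zero_smul]
  have hfx : x ∉ X.basicOpen f := fun hb => hx (by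
    have h := (AmpleLib.genAt_smul_iff f e hxU (he.genAt hxU)).2 hb
    rw [hfe] at h
    exact (AmpleLib.genAt_res le_top σ hxU).1 h)
  by_contra h
  push_neg at h
  have hfx' : f ∈ (hU.primeIdealOf ⟨x, hxU⟩).asIdeal := by
    by_contra hne
    refine hfx ?_
    have hxx : hU.fromSpec (hU.primeIdealOf ⟨x, hxU⟩) = x := hU.fromSpec_primeIdealOf ⟨x, hxU⟩
    rw [← hxx]
    change hU.primeIdealOf ⟨x, hxU⟩ ∈ hU.fromSpec ⁻¹ᵁ X.basicOpen f
    rw [hU.fromSpec_preimage_basicOpen]
    exact hne
  refine (Ideal.disjoint_nonZeroDivisors_of_mem_minimalPrimes ?_).le_bot ⟨hfx', hf⟩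
  refine ⟨⟨(hU.primeIdealOf ⟨x, hxU⟩).isPrime, bot_le⟩, fun q hq hle => ?_⟩
  have hsp : (⟨q, hq.1⟩ : PrimeSpectrum _) ⤳ hU.primeIdealOf ⟨x, hxU⟩ :=
    (PrimeSpectrum.le_iff_specializes _ _).mp hle
  have h3 := hsp.map hU.fromSpec.continuous
  have hxx : hU.fromSpec (hU.primeIdealOf ⟨x, hxU⟩) = x := hU.fromSpec_primeIdealOf ⟨x, hxU⟩
  have h4 := h _ (h3.trans (specializes_of_eq hxx))
  replace h4 := h4.trans hxx.symm
  exact (congrArg PrimeSpectrum.asIdeal (hU.fromSpec.isOpenEmbedding.injective h4)).ge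

theorem surjective_stalk_unitHom {L : X.Modules} (σ : Γ(L, ⊤)) {x : X}
    (h : GenAt L σ (show x ∈ (⊤ : X.Opens) from trivial)) :
    Function.Surjective ((St x).map (unitHom L σ)).hom := fun a => by
  obtain ⟨c, hc⟩ := h.2 a
  refine ⟨c • gm (Coh.structureModule X) x (show x ∈ (⊤ : X.Opens) from trivial) (1 : Γ(X, ⊤)), ?_⟩
  rw [map_smul, DevissLib.gm_app, unitHom_app]
  refine Eq.trans ?_ hc
  refine congrArg (c • ·) (congrArg (gm L x _) ?_)
  exact (one_smul Γ(X, ⊤) _).trans (AmpleLib.res_refl L σ)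

variable (k : Type u) [Field k] [X.Over (Spec (CommRingCat.of k))] [IsProper (X ↘ Spec (CommRingCat.of k))]

include k in
/-- If `P` has no `H¹` and `L` has a regular section then `P ⊗ L` is globally generated away from where
`P` needs to be, and has no `H¹`. -/
theorem h1_and_lift (hdim : topologicalKrullDim X ≤ 1) {L P : X.Modules} (hL : PicF.IsInvertible L)
    (hP : PicF.IsInvertible P) (σ : Γ(L, ⊤)) [Mono (unitHom L σ)] (hP1 : Subsingleton (Coh.HH X P 1)) :
    Subsingleton (Coh.HH X (CohB1.tensorMod P L) 1) ∧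
      ∀ x : X, x ∉ genSet hL σ →
        ∃ τ : Γ(CohB1.tensorMod P L, ⊤), GenAt (CohB1.tensorMod P L) τ (show x ∈ (⊤ : X.Opens) from trivial) := by
  haveI := CurvLib.isNoetherian k (X := X)
  let s := unitHom L σ
  let S : ShortComplex X.Modules := ShortComplex.mk s (cokernel.π s) (cokernel.condition s)
  have hS : S.ShortExact :=
    { exact := ShortComplex.exact_cokernel s, mono_f := inferInstanceAs (Mono s)
      epi_g := inferInstanceAs (Epi (cokernel.π s)) }
  have hQ := QCohLib.isCoh_cokernel s (DevissLib.isCoh_structureModule X).1 (CurvLib.isCoh_of_isInvertible hL)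
  have hT := HilbPolyLib.shortExact_tensor hP hS
  let C := CohB1.tensorMod P (cokernel s)
  have hC : Coh.IsCoh C := HilbPolyLib.isCoh_tensor hP hQ
  have hd : topologicalKrullDim (CohB1.support C) ≤ 0 := by
    refine CurvLib.dim_le_zero_of_no_maximal hdim (QCohLib.isClosed_support _ hC.2) fun x hx => ?_
    refine exists_generization hL σ fun hg => ?_
    rw [HilbPolyLib.support_tensor hP (cokernel s)] at hx
    exact DevissLib.notMem_support_cokernel s x (surjective_stalk_unitHom σ hg) hx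
  obtain ⟨hf, hc⟩ := CurvLib.finite_support_data k hC hd
  haveI hC1 : Subsingleton (Coh.HH X C 1) :=
    CurvLib.subsingleton_HH_of_support_dim C hC.2 (d := 0) (by exact_mod_cast hd) 1 (by omega)
  have hO : Subsingleton (Coh.HH X (CohB1.tensorMod P (Coh.structureModule X)) 1) :=
    h1_iso (KFlatLib.tensSwap (Coh.structureModule X) P ≪≫ KFlatLib.tensUnitIso P).symm hP1
  refine ⟨subsingleton_of_forall_eq 0 fun y => ?_, fun x hx => ?_⟩
  · obtain ⟨z, hz⟩ := LichtLib.surjective_f hT hC1 y
    rw [← hz, hO.elim z 0, map_zero]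
  let T := tL P
  obtain ⟨U, e₀, hxU, he₀⟩ := TwistLib.exists_genOn hL x
  obtain ⟨U', p₀, hxU', hp₀⟩ := TwistLib.exists_genOn hP x
  let W := U ⊓ U'
  have hxW : x ∈ W := ⟨hxU, hxU'⟩
  let e := res L (inf_le_left : W ≤ U) e₀
  let p := res P (inf_le_right : W ≤ U') p₀
  have he : GenOn L e := he₀.res _
  have hp : GenOn P p := hp₀.res _
  let E : Γ(CohB1.tensorMod P L, W) := shT p e
  have hE : GenAt (CohB1.tensorMod P L) E hxW := (hp.genAt hxW).tensor (he.genAt hxW)
  obtain ⟨c, hc'⟩ := CurvLib.surjective_germ_of_finite_support C hf hc subset_rfl x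
    (((St x).map (T.map (cokernel.π s))).hom (gm (CohB1.tensorMod P L) x hxW E))
  obtain ⟨y, hy⟩ := LichtLib.surjective_g hT hO ((DegPullLib.e0 C).symm c)
  let τ : Γ(CohB1.tensorMod P L, ⊤) := DegPullLib.e0 _ y
  have hτ : (T.map (cokernel.π s)).app ⊤ τ = c :=
    (e0_map (T.map (cokernel.π s)) y).symm.trans ((congrArg (DegPullLib.e0 C) hy).trans (AddEquiv.apply_symm_apply _ _))
  refine ⟨τ, ?_⟩
  have hker : ((St x).map (T.map (cokernel.π s))).hom
      (gm (CohB1.tensorMod P L) x hxW E - gm (CohB1.tensorMod P L) x (show x ∈ (⊤ : X.Opens) from trivial) τ) = 0 := by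
    rw [map_sub, sub_eq_zero]
    refine hc'.symm.trans ?_
    refine Eq.trans ?_ (DevissLib.gm_app (T.map (cokernel.π s)) x _ τ).symm
    exact congrArg (gm C x _) hτ.symm
  haveI : Epi (T.map (cokernel.π s)) := hT.epi_g
  have hx' := hT.exact.map_of_epi_of_preservesCokernel (St x) (show Epi (T.map (cokernel.π s)) from inferInstance)
    inferInstance
  obtain ⟨a, ha⟩ := (ShortComplex.moduleCat_exact_iff _).1 hx' _ hker
  obtain ⟨V, hxV, t, ht⟩ := DevissLib.exists_gm_eq _ x a
  let V' := V ⊓ W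
  have hxV' : x ∈ V' := ⟨hxV, hxW⟩
  let t' : Γ(T.obj (Coh.structureModule X), V') := res _ (inf_le_left : V' ≤ V) t
  obtain ⟨μ, hμ, hμ'⟩ := SerreVanLib.exists_unit_iso P
  haveI := hμ
  let p' := res P (inf_le_right : V' ≤ W) p
  let e' := res L (inf_le_right : V' ≤ W) e
  obtain ⟨r, hr⟩ := ((hp.res (inf_le_right : V' ≤ W)) V' le_rfl).2 (μ.app V' t')
  obtain ⟨b, hb⟩ := ((he.res (inf_le_right : V' ≤ W)) V' le_rfl).2 (res L (le_top : V' ≤ ⊤) σ)
  dsimp only at hr hb
  rw [AmpleLib.res_refl] at hr hb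
  have ht' : t' = r • (shT p' (show Γ(Coh.structureModule X, V') from (1 : Γ(X, V'))) :
      Γ(CohB1.tensorMod P (Coh.structureModule X), V')) := by
    refine (ConcreteCategory.bijective_of_isIso (μ.app V')).1 ?_
    rw [← shT_smul₁]
    exact hr.symm.trans ((hμ' V' _ _).trans (one_smul Γ(X, V') _)).symm
  have hft : (T.map s).app V' t' = (r * b) • res _ (inf_le_right : V' ≤ W) E := by
    rw [ht', QCohLib.app_smul]
    refine (congrArg (r • ·) (KFlatLib.tensorBi_map₂_shTm P s p' _)).trans ?_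
    refine (congrArg (fun z : Γ(L, V') => r • (shT p' z : Γ(CohB1.tensorMod P L, V')))
      (show s.app V' _ = b • e' from
        (unitHom_app L σ V' _).trans ((one_smul Γ(X, V') _).trans hb.symm))).trans ?_
    rw [shT_smul₂, smul_smul, AmpleLib.shT_res]
  have hbm : ¬ IsUnit (X.presheaf.germ V' x hxV' b) := fun hu => hx (by
    have hm : x ∈ X.basicOpen b := (Scheme.mem_basicOpen X b x hxV').2 hu
    have h := (AmpleLib.genAt_smul_iff b e' hxV' ((he.res _).genAt hxV')).2 hm
    rw [hb] at h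
    exact (AmpleLib.genAt_res le_top σ hxV').1 h)
  have hu : IsUnit (1 - X.presheaf.germ V' x hxV' (r * b)) := by
    refine IsLocalRing.isUnit_one_sub_self_of_mem_nonunits _ ?_
    rw [mem_nonunits_iff, map_mul]
    exact fun h => hbm (isUnit_of_mul_isUnit_right h)
  have hg : gm (CohB1.tensorMod P L) x (show x ∈ (⊤ : X.Opens) from trivial) τ =
      (1 - X.presheaf.germ V' x hxV' (r * b)) • gm (CohB1.tensorMod P L) x hxW E := by
    have h1 : ((St x).map (T.map s)).hom a =
        X.presheaf.germ V' x hxV' (r * b) • gm (CohB1.tensorMod P L) x hxW E := by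
      have ht2 : a = gm (T.obj (Coh.structureModule X)) x hxV' t' :=
        ht.symm.trans (AmpleLib.germ_res (T.obj (Coh.structureModule X)) inf_le_left t hxV').symm
      rw [ht2, DevissLib.gm_app, hft, DevissLib.gm_smul]
      exact congrArg (_ • ·) (AmpleLib.germ_res (CohB1.tensorMod P L) inf_le_right E hxV')
    rw [sub_smul, one_smul, ← h1]
    exact (sub_sub_cancel _ _).symm.trans (congrArg (gm (CohB1.tensorMod P L) x hxW E - ·) ha.symm)
  show Function.Bijective fun c => c • gm (CohB1.tensorMod P L) x _ τ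
  rw [hg]
  simp only [smul_smul]
  exact hE.comp hu.unit.mulRight.bijective

end NefH1Lib
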