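import Groth.Agent.NefH1Lib.Koszul
import Groth.Agent.NefH1Lib.Embed
import Groth.Agent.NefH1Lib.Regular
import Groth.Agent.GenusZeroLib.Mult
import Groth.Agent.RRVanLib.GG
import Mathlib.Algebra.Module.Submodule.Union
import Mathlib.Algebra.Algebra.Operations

/-!
# Curves of genus one: sections of modules of degree at least three
-/

set_option autoImplicit false
set_option linter.style.haveILetI false
set_option linter.unusedSectionVars false
set_option maxHeartbeats 1000000
set_option backward.isDefEq.respectTransparency false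
set_option backward.isDefEq.respectTransparency.types false
universe u

open CategoryTheory CategoryTheory.Limits AlgebraicGeometry TopologicalSpace Opposite
open QCohLib
open AmpleLib (shT res GenOn GenAt)
open TwistLib (genSet)
open DevissLib (St gm)

noncomputable section

namespace NefH1Lib

/-- A hyperplane containing `1` and no nonzero ideal generates under multiplication. -/
theorem mul_self_eq_top {k A : Type*} [Field k] [CommRing A] [Algebra k A] [Module.Finite k A]
    (V : Submodule k A) (h1 : (1 : A) ∈ V) (hd : 3 ≤ Module.finrank k A)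
    (hcod : Module.finrank k A ≤ Module.finrank k V + 1)
    (hI : ∀ a : A, a ≠ 0 → ∀ y : A, ∃ v ∈ V, ∃ c, y = v + c * a) : V * V = ⊤ := by
  have hle : V ≤ V * V := fun a ha => by simpa using Submodule.mul_mem_mul ha h1
  by_contra hne
  have hV : V ≠ ⊤ := fun h => hne (top_le_iff.1 (h.ge.trans hle))
  have hlt : Module.finrank k (V * V : Submodule k A) < Module.finrank k A := Submodule.finrank_lt hne
  have heq : V * V = V := (Submodule.eq_of_le_of_finrank_le hle (by omega)).symm
  obtain ⟨x, hx⟩ : ∃ x, x ∉ V := by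
    by_contra h
    exact hV (eq_top_iff.2 fun y _ => by_contra fun hy => h ⟨y, hy⟩)
  have hsup : V ⊔ Submodule.span k {x} = ⊤ := by
    have h2 : V < V ⊔ Submodule.span k {x} :=
      lt_of_le_of_ne le_sup_left fun h => hx (h.ge (Submodule.mem_sup_right (Submodule.mem_span_singleton_self x)))
    have := Submodule.finrank_lt_finrank_of_lt h2
    have := Submodule.finrank_le (V ⊔ Submodule.span k {x})
    exact Submodule.eq_top_of_finrank_eq (by omega)
  let φ : V →ₗ[k] A ⧸ V := V.mkQ.comp ((LinearMap.mulRight k x).comp V.subtype)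
  have hφ : Function.Injective φ := by
    rw [injective_iff_map_eq_zero]
    rintro ⟨a, ha⟩ h
    have hax : a * x ∈ V := (Submodule.Quotient.mk_eq_zero V).1 h
    have hall : ∀ y, a * y ∈ V := fun y => by
      obtain ⟨v, hv, w, hw, rfl⟩ := Submodule.mem_sup.1 (hsup.ge (Submodule.mem_top : y ∈ _))
      obtain ⟨r, rfl⟩ := Submodule.mem_span_singleton.1 hw
      rw [mul_add, mul_smul_comm]
      exact add_mem (heq.le (Submodule.mul_mem_mul ha hv)) (V.smul_mem r hax)
    refine Subtype.ext (by_contra fun ha0 => hx ?_)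
    obtain ⟨v, hv, c, hc⟩ := hI a ha0 x
    rw [hc, mul_comm]
    exact add_mem hv (hall c)
  have h1' := LinearMap.finrank_le_finrank_of_injective hφ
  have := V.finrank_quotient_add_finrank
  have := Submodule.finrank_lt hV
  omega

variable {X : Scheme.{u}}

/-- `O ⊗ P` is `P`, on sections. -/
theorem exists_unit_iso' {P : X.Modules} (hP : PicF.IsInvertible P) : ∃ φ : CohB1.tensorMod (Coh.structureModule X) P ⟶ P,
    IsIso φ ∧ ∀ (V : X.Opens) (r : Γ(X, V)) (m : Γ(P, V)),
      φ.app V (shT (show Γ(Coh.structureModule X, V) from r) m) = r • m := by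
  obtain ⟨φ, hφ⟩ := GrTildeLib.exists_tens_hom (M := Coh.structureModule X) (N := P) (P := P)
    (fun V (r : Γ(X, V)) (m : Γ(P, V)) => r • m)
    (fun V r r' m => add_smul (show Γ(X, V) from r) (show Γ(X, V) from r') m)
    (fun V r m m' => smul_add (show Γ(X, V) from r) m m')
    (fun V c r m => mul_smul c (show Γ(X, V) from r) m)
    (fun V c r m => smul_comm (show Γ(X, V) from r) c m)
    (fun V W h r m => AmpleLib.res_smul P h (show Γ(X, W) from r) m)
  refine ⟨φ, ?_, hφ⟩
  refine GrTildeLib.isIso_of_bilin φ fun x => ?_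
  obtain ⟨U, e, hxU, he⟩ := TwistLib.exists_genOn hP x
  refine ⟨U, hxU, e, he.genAt hxU, fun V hV => ?_⟩
  simp only [hφ]
  exact he V hV


theorem shT_sum_right' {M N : X.Modules} {W : X.Opens} (a : Γ(M, W)) {ι : Type*} [Fintype ι] (b : ι → Γ(N, W)) :
    shT a (∑ i, b i) = ∑ i, (shT a (b i) : Γ(CohB1.tensorMod M N, W)) := by
  classical
  suffices h : ∀ t : Finset ι, shT a (∑ i ∈ t, b i) = ∑ i ∈ t, (shT a (b i) : Γ(CohB1.tensorMod M N, W)) from
    h Finset.univ
  intro t
  induction t using Finset.induction_on with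
  | empty => simp [GenusZeroLib.shT_zero_right]
  | insert i t hi ih => rw [Finset.sum_insert hi, Finset.sum_insert hi, GenusZeroLib.shT_add_right, ih]

/-- Over an infinite field a generated invertible module has a section generating at given points. -/
theorem exists_genAt_finite {X : Scheme.{u}} (k : Type u) [Field k] [X.Over (Spec (CommRingCat.of k))] [Infinite k]
    {L : X.Modules} (hL : PicF.IsInvertible L)
    (hgg : ∀ x : X, ∃ σ : Γ(L, ⊤), GenAt L σ (show x ∈ (⊤ : X.Opens) from trivial)) {F : Set X} (hF : F.Finite) :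
    ∃ t : Γ(L, ⊤), ∀ x ∈ F, GenAt L t (show x ∈ (⊤ : X.Opens) from trivial) := by
  classical
  haveI := hF.to_subtype
  letI := GenusZeroLib.kmod k L
  have hP : ∀ x : F, ∃ S : Submodule k Γ(L, ⊤),
      ∀ σ, σ ∈ S ↔ ¬ GenAt L σ (show x.1 ∈ (⊤ : X.Opens) from trivial) := fun x => by
    obtain ⟨U, e, hxU, he⟩ := TwistLib.exists_genOn hL x.1
    let g := L.presheaf.germ U x.1 hxU e
    have hb : Function.Bijective fun c : X.presheaf.stalk x.1 => c • g := he.genAt hxU
    have hiff : ∀ σ : Γ(L, ⊤), (¬ GenAt L σ (show x.1 ∈ (⊤ : X.Opens) from trivial)) ↔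
        ∃ c ∈ IsLocalRing.maximalIdeal (X.presheaf.stalk x.1), L.presheaf.germ ⊤ x.1 trivial σ = c • g := fun σ => by
      obtain ⟨c, hc⟩ := hb.2 (L.presheaf.germ ⊤ x.1 trivial σ)
      dsimp only at hc
      constructor
      · refine fun h => ⟨c, (IsLocalRing.mem_maximalIdeal _).2 fun hu => h ?_, hc.symm⟩
        show Function.Bijective fun r : X.presheaf.stalk x.1 => r • L.presheaf.germ ⊤ x.1 trivial σ
        rw [← hc]
        simp only [smul_smul]
        exact hb.comp hu.unit.mulRight.bijective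
      · rintro ⟨c', hc', e'⟩ h
        obtain ⟨r, hr⟩ := h.2 g
        dsimp only at hr
        rw [e', smul_smul] at hr
        have h1 : r * c' = 1 := hb.1 (show (r * c') • g = (1 : X.presheaf.stalk x.1) • g by rw [hr, one_smul])
        exact (IsLocalRing.mem_maximalIdeal _).1 hc' (IsUnit.of_mul_eq_one_right _ h1)
    refine ⟨{ carrier := {σ | ¬ GenAt L σ (show x.1 ∈ (⊤ : X.Opens) from trivial)}
              add_mem' := fun {a b} ha hb' => ?_
              zero_mem' := ?_
              smul_mem' := fun r a ha => ?_ }, fun σ => Iff.rfl⟩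
    · obtain ⟨c, hc, e1⟩ := (hiff a).1 ha
      obtain ⟨d, hd, e2⟩ := (hiff b).1 hb'
      exact (hiff (a + b)).2 ⟨c + d, add_mem hc hd, by rw [map_add, e1, e2, add_smul]⟩
    · exact (hiff 0).2 ⟨0, zero_mem _, by rw [map_zero, zero_smul]⟩
    · obtain ⟨c, hc, e1⟩ := (hiff a).1 ha
      refine (hiff (r • a)).2 ⟨X.presheaf.germ ⊤ x.1 trivial (GenusZeroLib.ρ k r) * c, Ideal.mul_mem_left _ _ hc, ?_⟩
      rw [mul_smul, ← e1]
      exact AmpleLib.germ_smul L (W := ⊤) (GenusZeroLib.ρ k r) a trivial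
  choose S hS using hP
  obtain ⟨t, ht⟩ := Submodule.exists_forall_notMem_of_forall_ne_top S fun x h => by
    obtain ⟨σ, hσ⟩ := hgg x.1
    exact (hS x σ).1 (h ▸ Submodule.mem_top) hσ
  exact ⟨t, fun x hx => by_contra fun h => ht ⟨x, hx⟩ ((hS ⟨x, hx⟩ t).2 h)⟩

variable (k : Type u) [Field k] [X.Over (Spec (CommRingCat.of k))] [IsProper (X ↘ Spec (CommRingCat.of k))]
  [IsIntegral X] (hdim : topologicalKrullDim X = 1) (hg : Curv2.genus k X = 1)

include hg in
/-- Genus one forces only constant functions. -/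
theorem h0_eq_one : Module.finrank k (Coh.HH X (Coh.structureModule X) 0) = 1 := by
  let f := X ↘ Spec (CommRingCat.of k)
  letI F : Field (Coh.Γtop X) := (isField_of_universallyClosed k f).toField
  letI : Algebra k (Coh.Γtop X) := (Coh.toGlobal f).toAlgebra
  haveI : IsScalarTower k (Coh.Γtop X) (Coh.HH X (Coh.structureModule X) 1) :=
    IsScalarTower.of_algebraMap_smul fun _ _ => rfl
  haveI : Module.Free (Coh.Γtop X) (Coh.HH X (Coh.structureModule X) 1) :=
    Module.Free.of_divisionRing (Coh.Γtop X) _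
  have h := Module.finrank_mul_finrank k (Coh.Γtop X) (Coh.HH X (Coh.structureModule X) 1)
  rw [show Module.finrank k (Coh.HH X (Coh.structureModule X) 1) = 1 from hg] at h
  letI := GenusZeroLib.kmod k (Coh.structureModule X)
  rw [(GenusZeroLib.e0k k (Coh.structureModule X)).finrank_eq]
  exact (Nat.eq_one_of_mul_eq_one_right h)

include hdim hg in
/-- Quotients of small length lift sections. -/
theorem surjective_of_lt {L Q : X.Modules} (hL : PicF.IsInvertible L) (π : L ⟶ Q) [Epi π] (hQ : Coh.IsCoh Q)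
    (hd : topologicalKrullDim (CohB1.support Q) ≤ 0)
    (hlt : (Module.finrank k (Coh.HH X Q 0) : ℤ) < Curv2.deg k X L 1) :
    Function.Surjective (CurvLib.hMap (k := k) π 0) := by
  haveI := CurvLib.isNoetherian k (X := X)
  have h0 := h0_eq_one k hg
  have hLc := CurvLib.isCoh_of_isInvertible hL
  have hS := kernel_shortExact π
  have hF : Coh.IsCoh (kernel π) := QCohLib.isCoh_kernel _ hLc hQ.1
  have hadd := CurvLib.euler_add_of_isCoh (k := k) hS hF hLc hQ
  change Curv2.euler k X L = Curv2.euler k X (kernel π) + Curv2.euler k X Q at hadd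
  rw [RRVanLib.euler_eq_deg hdim h0, CurvLib.euler_eq_h0 (k := k) hQ hd, hg] at hadd
  haveI hF1 : Subsingleton (Coh.HH X (kernel π) 1) := by
    rcases subsingleton_or_nontrivial (Coh.HH X (kernel π) 1) with h | h
    · exact h
    have := RRVanLib.euler_lt_genus (k := k) hdim hF hL (kernel.ι π) h
    omega
  exact fun q => LinearMap.mem_range.mp (by
    rw [show LinearMap.range (CurvLib.hMap (k := k) π 0) = LinearMap.ker (CurvLib.hDel (k := k) hS 0) from
      CurvLib.exact₃ hS 0, LinearMap.mem_ker]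
    exact @Subsingleton.elim _ hF1 _ _)


/-- Sections on an open outside the support vanish. -/
theorem eq_zero_outside {X : Scheme.{u}} (M : X.Modules) {V : X.Opens} (hV : ∀ y ∈ V, y ∉ CohB1.support M)
    (z : Γ(M, V)) : z = 0 :=
  TopCat.Presheaf.section_ext ((toAbF X).obj M : TopCat.Sheaf AddCommGrpCat X.toTopCat) V _ _ fun y hy => by
    have : Subsingleton (M.presheaf.stalk y) := not_not.mp fun h => hV y hy h
    exact @Subsingleton.elim _ this _ _

/-- Restriction to an open containing the support is bijective. -/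
theorem res_bijective_of_support {X : Scheme.{u}} (M : X.Modules) (U W : X.Opens)
    (hW : ∀ y ∈ W, y ∉ CohB1.support M) (hcov : ∀ y : X, y ∈ U ∨ y ∈ W) :
    Function.Bijective (res M (le_top : U ≤ ⊤)) := by
  refine ⟨fun a b h => ?_, fun z => ?_⟩
  · refine TwistLib.mod_ext M fun y hy => ?_
    rcases hcov y with h' | h'
    · rw [← AmpleLib.germ_res M (le_top : U ≤ ⊤) a h', h, AmpleLib.germ_res M]
    · rw [← AmpleLib.germ_res M (le_top : W ≤ ⊤) a h', eq_zero_outside M hW (res M le_top a),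
        ← eq_zero_outside M hW (res M le_top b), AmpleLib.germ_res M]
  · let O : ULift.{u} Bool → X.Opens := fun b => if b.down then U else W
    let sec : ∀ b : ULift.{u} Bool, Γ(M, O b) := fun b =>
      match b with
      | ⟨true⟩ => z
      | ⟨false⟩ => 0
    have hz : ∀ (a b : ULift.{u} Bool), (¬ a.down ∨ ¬ b.down) → ∀ t : Γ(M, O a ⊓ O b), t = 0 := fun a b h t =>
      eq_zero_outside M (fun y hy => by
        rcases h with h | h
        · exact hW y (by simpa [O, Bool.eq_false_iff.2 h] using hy.1)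
        · exact hW y (by simpa [O, Bool.eq_false_iff.2 h] using hy.2)) t
    obtain ⟨q, hq, -⟩ := TopCat.Sheaf.existsUnique_gluing' (F := ⟨M.presheaf, M.isSheaf⟩) O ⊤
      (fun _ => homOfLE le_top) (fun y _ => Opens.mem_iSup.2 (by
        rcases hcov y with h | h
        exacts [⟨⟨true⟩, h⟩, ⟨⟨false⟩, h⟩])) sec (by
      rintro ⟨a⟩ ⟨b⟩
      cases a <;> cases b
      · rfl
      · exact (hz ⟨false⟩ ⟨true⟩ (Or.inl (by simp)) _).trans (hz ⟨false⟩ ⟨true⟩ (Or.inl (by simp)) _).symm
      · exact (hz ⟨true⟩ ⟨false⟩ (Or.inr (by simp)) _).trans (hz ⟨true⟩ ⟨false⟩ (Or.inr (by simp)) _).symm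
      · rfl)
    exact ⟨q, hq ⟨true⟩⟩

include hdim hg in
/-- The multiplication `Γ(L) ⊗ Γ(L) → Γ(L²)` is surjective. -/
theorem mul_two [Infinite k] {L : X.Modules} (hL : PicF.IsInvertible L) (hdeg : 3 ≤ Curv2.deg k X L 1)
    (hgg : Curv2.IsGloballyGenerated L) (τ : Γ(CohB1.tensorMod L L, ⊤)) :
    τ ∈ AddSubmonoid.closure (Set.range fun p : Γ(L, ⊤) × Γ(L, ⊤) =>
      (shT p.1 p.2 : Γ(CohB1.tensorMod L L, ⊤))) := by
  classical
  haveI := CurvLib.isNoetherian k (X := X)
  have h0 := h0_eq_one k hg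
  have hLc := CurvLib.isCoh_of_isInvertible hL
  have hO := CurvLib.isInvertible_structureModule (X := X)
  have hAmp : CohB1.IsAmple L := SerreVanLib.isAmple_of_deg_pos (k := k) hdim hL (by omega)
  have heL := RRVanLib.euler_eq_deg (k := k) hdim h0 L
  rw [hg] at heL
  -- a nonzero section
  obtain ⟨s, hs⟩ : ∃ s : Γ(L, ⊤), s ≠ 0 := by
    by_contra hc
    push Not at hc
    haveI : Subsingleton Γ(L, ⊤) := ⟨fun a b => by rw [hc a, hc b]⟩
    haveI : Subsingleton (Coh.HH X L 0) := (DegPullLib.e0 L).toEquiv.subsingleton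
    have := CurvLib.euler_curve (k := k) hdim L
    rw [Module.finrank_zero_of_subsingleton (R := k) (M := Coh.HH X L 0)] at this
    omega
  obtain ⟨hfin, -⟩ := GenusZeroLib.finite_compl_genSet k hdim hL hs
  obtain ⟨t, ht⟩ := exists_genAt_finite k hL (Groth.Agent.S1611.exists_genAt_of_gg hL hgg) hfin
  let W := genSet hL s
  let U := genSet hL t
  have hcov : ∀ y : X, y ∈ U ∨ y ∈ W := fun y => by
    by_cases hy : y ∈ W
    · exact Or.inr hy
    · exact Or.inl (ht y hy)
  have hU : IsAffineOpen U := CurveAmpLib.isAffineOpen_genSet (X ↘ Spec (CommRingCat.of k)) hL hAmp t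
  let φ := unitHom L s
  have hφ : φ ≠ 0 := RRVanLib.unitHom_ne_zero hs
  haveI : Mono φ := CurvLib.mono_of_ne_zero hO hL hφ
  let C := cokernel φ
  let π : L ⟶ C := cokernel.π φ
  obtain ⟨hCc, hdC⟩ := CurvLib.cokernel_data (k := k) hO hL hdim hφ
  haveI := hCc.1
  haveI := hLc.1
  haveI : Coh.IsQCoh (Coh.structureModule X) := QCohLib.isQCoh_unit
  let S : ShortComplex X.Modules := ShortComplex.mk φ π (cokernel.condition φ)
  have hS : S.ShortExact :=
    { exact := ShortComplex.exact_of_g_is_cokernel _ (cokernelIsCokernel φ)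
      mono_f := inferInstanceAs (Mono φ)
      epi_g := inferInstanceAs (Epi (cokernel.π φ)) }
  have hW : ∀ y ∈ W, y ∉ CohB1.support C := fun y hy =>
    DevissLib.notMem_support_cokernel φ y (surjective_stalk_unitHom s hy)
  -- functions on `U`
  have htU : GenOn L (res L (le_top : U ≤ ⊤) t) := TwistLib.genSet_genOn hL t
  let tU := res L (le_top : U ≤ ⊤) t
  have htU' : Function.Bijective fun r : Γ(X, U) => r • tU := by
    simpa only [AmpleLib.res_refl] using htU U le_rfl
  obtain ⟨f, hf⟩ := htU'.2 (res L (le_top : U ≤ ⊤) s)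
  dsimp only at hf
  have hφU : ∀ c : Γ(X, U), φ.app U (show Γ(Coh.structureModule X, U) from c) = (c * f) • tU := fun c => by
    rw [mul_smul, hf]
    exact unitHom_app L s U _
  let R : Type u := Γ(X, U)
  letI : Algebra k R := ((X.presheaf.map (homOfLE (le_top : U ≤ ⊤)).op).hom.comp (GenusZeroLib.ρ k)).toAlgebra
  let I : Ideal R := Ideal.span {f}
  let A := R ⧸ I
  -- the comparison with the cokernel
  letI : Module k Γ(C, U) := Module.compHom _ (algebraMap k R)
  let θ : R →ₗ[k] Γ(C, U) :=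
    { toFun := fun r => π.app U ((r : Γ(X, U)) • tU)
      map_add' := fun a b => by rw [← map_add]; exact congrArg _ (add_smul (a : Γ(X, U)) b tU)
      map_smul' := fun c r => by
        refine Eq.trans ?_ (QCohLib.app_smul π U (algebraMap k R c) _)
        exact congrArg _ (mul_smul (algebraMap k R c : Γ(X, U)) r tU) }
  have hθ : Function.Surjective θ := fun z => by
    obtain ⟨w, hw⟩ := FormalLib.app_surjective_of_epi _ π hU z
    obtain ⟨r, hr⟩ := htU'.2 w
    exact ⟨r, (congrArg (π.app U) hr).trans hw⟩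
  have hθk : LinearMap.ker θ = I.restrictScalars k := by
    ext r
    rw [LinearMap.mem_ker, Submodule.restrictScalars_mem, Ideal.mem_span_singleton']
    constructor
    · intro hr
      obtain ⟨c, hc⟩ := QCohLib.exists_of_app_eq_zero hS.exact hS.mono_f (U := U) ((r : Γ(X, U)) • tU) hr
      exact ⟨c, htU'.1 ((hφU c).symm.trans hc)⟩
    · rintro ⟨c, rfl⟩
      show π.app U (((c : Γ(X, U)) * f) • tU) = 0
      rw [← hφU, ← ConcreteCategory.comp_apply, ← Scheme.Modules.Hom.comp_app, cokernel.condition]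
      rfl
  let H : A ≃ₗ[k] Γ(C, U) :=
    ((Submodule.Quotient.restrictScalarsEquiv k I).symm ≪≫ₗ Submodule.quotEquivOfEq _ _ hθk.symm) ≪≫ₗ
      θ.quotKerEquivOfSurjective hθ
  letI := GenusZeroLib.kmod k C
  let rC : Γ(C, ⊤) →ₗ[k] Γ(C, U) :=
    { toFun := fun z => res C (le_top : U ≤ ⊤) z
      map_add' := fun a b => map_add _ a b
      map_smul' := fun c z => AmpleLib.res_smul C le_top (GenusZeroLib.ρ k c) z }
  let J : Coh.HH X C 0 ≃ₗ[k] A :=
    (GenusZeroLib.e0k k C ≪≫ₗ LinearEquiv.ofBijective rC (res_bijective_of_support C U W hW hcov)) ≪≫ₗ H.symm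
  have hJ : ∀ (x : Coh.HH X C 0) (r : R),
      res C (le_top : U ≤ ⊤) (DegPullLib.e0 C x) = θ r → J x = Ideal.Quotient.mk I r := fun x r h => by
    apply H.injective
    refine (H.apply_symm_apply _).trans (h.trans ?_)
    rfl
  haveI := CurvLib.finite_HH (k := k) hCc 0
  haveI := CurvLib.finite_HH (k := k) hLc 0
  haveI := CurvLib.finite_HH (k := k) (CurvLib.isCoh_of_isInvertible hO) 1
  haveI : Module.Finite k A := Module.Finite.equiv J
  let V : Submodule k A := (LinearMap.range (CurvLib.hMap (k := k) π 0)).map J.toLinearMap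
  have hVmem : ∀ (σ : Γ(L, ⊤)) (r : R), res L (le_top : U ≤ ⊤) σ = (r : Γ(X, U)) • tU →
      Ideal.Quotient.mk I r ∈ V := fun σ r h => by
    refine ⟨_, ⟨(DegPullLib.e0 L).symm σ, rfl⟩, hJ _ r ?_⟩
    refine (congrArg (res C le_top) ((RRVanLib.e0_map (k := k) π _).trans
      (congrArg (π.app ⊤) ((DegPullLib.e0 L).apply_symm_apply σ)))).trans ?_
    exact (QCohLib.app_map π (homOfLE le_top) σ).symm.trans (congrArg (π.app U) h)
  have hVsurj : ∀ a ∈ V, ∃ (σ : Γ(L, ⊤)) (r : R), res L (le_top : U ≤ ⊤) σ = (r : Γ(X, U)) • tU ∧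
      Ideal.Quotient.mk I r = a := by
    rintro _ ⟨_, ⟨x, rfl⟩, rfl⟩
    obtain ⟨r, hr⟩ := htU'.2 (res L (le_top : U ≤ ⊤) (DegPullLib.e0 L x))
    refine ⟨DegPullLib.e0 L x, r, hr.symm, (hJ _ r ?_).symm⟩
    refine (congrArg (res C le_top) (RRVanLib.e0_map (k := k) π x)).trans ?_
    exact (QCohLib.app_map π (homOfLE le_top) _).symm.trans (congrArg (π.app U) hr.symm)
  have h1 : (1 : A) ∈ V := by
    have := hVmem t 1 (one_smul Γ(X, U) _).symm
    rwa [map_one] at this
  -- dimensions
  have hd : (Module.finrank k A : ℤ) = Curv2.deg k X L 1 := by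
    have e1 := CurvLib.euler_sub_eq_h0 (k := k) hO hL hdim hφ
    rw [RRVanLib.euler_structure hdim h0, hg, heL] at e1
    rw [← J.finrank_eq]
    change _ = ((Module.finrank k (Coh.HH X C 0) : ℕ) : ℤ) at e1
    omega
  have hVr : Module.finrank k V = Module.finrank k (LinearMap.range (CurvLib.hMap (k := k) π 0)) :=
    J.finrank_map_eq _
  have hcod : Module.finrank k A ≤ Module.finrank k V + 1 := by
    have e1 := (CurvLib.hDel (k := k) hS 0).finrank_range_add_finrank_ker
    rw [show LinearMap.ker (CurvLib.hDel (k := k) hS 0) = LinearMap.range (CurvLib.hMap (k := k) π 0) from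
      (CurvLib.exact₃ hS 0).symm] at e1
    have e2 := Submodule.finrank_le (LinearMap.range (CurvLib.hDel (k := k) hS 0))
    have e3 : Module.finrank k (Coh.HH X S.X₁ (0 + 1)) = 1 := hg
    have e4 : Module.finrank k (Coh.HH X S.X₃ 0) = Module.finrank k A := J.finrank_eq
    have e5 : Module.finrank k (LinearMap.range (CurvLib.hDel (k := k) hS 0)) + Module.finrank k V =
        Module.finrank k A := by
      rw [hVr, ← e4]
      exact e1
    omega
  have hI : ∀ a : A, a ≠ 0 → ∀ y : A, ∃ v ∈ V, ∃ c, y = v + c * a := fun a ha y => by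
    obtain ⟨r₀, rfl⟩ := Ideal.Quotient.mk_surjective a
    let q : Γ(C, ⊤) := DegPullLib.e0 C (J.symm (Ideal.Quotient.mk I r₀))
    let ψ := unitHom C q
    let Q := cokernel ψ
    let p : C ⟶ Q := cokernel.π ψ
    have hQc : Coh.IsCoh Q := QCohLib.isCoh_cokernel ψ QCohLib.isQCoh_unit hCc
    have hdQ : topologicalKrullDim (CohB1.support Q) ≤ 0 :=
      (Topology.IsEmbedding.inclusion (DevissLib.support_epi p)).isInducing.topologicalKrullDim_le.trans hdC
    have hqU : res C (le_top : U ≤ ⊤) q = θ r₀ := by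
      have h := congrArg H (J.apply_symm_apply (Ideal.Quotient.mk I r₀))
      exact (H.apply_symm_apply _).symm.trans (h.trans rfl)
    -- `H⁰` of the quotient is smaller
    have hsK := kernel_shortExact p
    have hKc : Coh.IsCoh (kernel p) := QCohLib.isCoh_kernel _ hCc hQc.1
    haveI hK1 : Subsingleton (Coh.HH X (kernel p) 1) :=
      CurvLib.subsingleton_HH_of_support_dim (kernel p) hKc.2 (d := 0)
        (by exact_mod_cast (Topology.IsEmbedding.inclusion (DevissLib.support_mono (kernel.ι p))).isInducing.topologicalKrullDim_le.trans hdC)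
        1 Nat.one_pos
    have hp : Function.Surjective (CurvLib.hMap (k := k) p 0) := fun z => LinearMap.mem_range.mp (by
      rw [show LinearMap.range (CurvLib.hMap (k := k) p 0) = LinearMap.ker (CurvLib.hDel (k := k) hsK 0) from
        CurvLib.exact₃ hsK 0, LinearMap.mem_ker]
      exact @Subsingleton.elim _ hK1 _ _)
    have hker : LinearMap.ker (CurvLib.hMap (k := k) p 0) ≠ ⊥ := fun h => ha (by
      have hx0 : J.symm (Ideal.Quotient.mk I r₀) = 0 := by
        refine (Submodule.eq_bot_iff _).1 h _ (LinearMap.mem_ker.2 ((DegPullLib.e0 Q).injective ?_))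
        rw [map_zero]
        refine (RRVanLib.e0_map (k := k) p _).trans ?_
        have hz : (ψ ≫ p).app ⊤ (show Γ(Coh.structureModule X, ⊤) from (1 : Γ(X, ⊤))) = 0 := by
          rw [cokernel.condition]; rfl
        refine Eq.trans ?_ hz
        show p.app ⊤ q = p.app ⊤ (ψ.app ⊤ _)
        refine congrArg (p.app ⊤) ?_
        exact ((unitHom_app C q ⊤ _).trans ((one_smul Γ(X, ⊤) _).trans (AmpleLib.res_refl C q))).symm
      rw [← J.apply_symm_apply (Ideal.Quotient.mk I r₀), hx0, map_zero])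
    have hlt : (Module.finrank k (Coh.HH X Q 0) : ℤ) < Curv2.deg k X L 1 := by
      have e1 := (CurvLib.hMap (k := k) p 0).finrank_range_add_finrank_ker
      rw [LinearMap.range_eq_top.2 hp, finrank_top] at e1
      have : 0 < Module.finrank k (LinearMap.ker (CurvLib.hMap (k := k) p 0)) := by
        haveI := (Submodule.nontrivial_iff_ne_bot).2 hker
        exact Module.finrank_pos
      have e4 : Module.finrank k (Coh.HH X C 0) = Module.finrank k A := J.finrank_eq
      omega
    haveI : Epi (π ≫ p) := epi_comp _ _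
    obtain ⟨x, hx⟩ := surjective_of_lt k hdim hg hL (π ≫ p) hQc hdQ hlt (CurvLib.hMap (k := k) p 0 (J.symm y))
    rw [CurvLib.hMap_comp] at hx
    refine ⟨J (CurvLib.hMap (k := k) π 0 x), ⟨_, ⟨x, rfl⟩, rfl⟩, ?_⟩
    let d := J.symm y - CurvLib.hMap (k := k) π 0 x
    have hd0 : CurvLib.hMap (k := k) p 0 d = 0 := by rw [map_sub, ← hx, sub_self]
    have hdU : p.app U (res C (le_top : U ≤ ⊤) (DegPullLib.e0 C d)) = 0 := by
      refine (QCohLib.app_map p (homOfLE le_top) _).trans ?_
      rw [← RRVanLib.e0_map (k := k) p d, hd0, map_zero, map_zero]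
    obtain ⟨w, hw⟩ := QCohLib.exists_of_app_eq_zero hsK.exact hsK.mono_f (U := U) _ hdU
    haveI : Coh.IsQCoh (kernel p) := hKc.1
    haveI : Epi (kernel.lift p ψ (cokernel.condition ψ)) :=
      (ShortComplex.exact_of_g_is_cokernel (ShortComplex.mk ψ p (cokernel.condition ψ))
        (cokernelIsCokernel ψ)).epi_kernelLift
    obtain ⟨c, rfl⟩ := FormalLib.app_surjective_of_epi _ (kernel.lift p ψ (cokernel.condition ψ)) hU w
    refine ⟨Ideal.Quotient.mk I (show R from c), ?_⟩
    rw [← map_mul, ← hJ d ((show R from c) * r₀) ?_, map_sub, J.apply_symm_apply]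
    · abel
    refine hw.symm.trans ?_
    show (kernel.lift p ψ _ ≫ kernel.ι p).app U c = _
    rw [kernel.lift_ι]
    refine (unitHom_app C q U c).trans ((congrArg (fun z => (show Γ(X, U) from c) • z) hqU).trans ?_)
    refine (QCohLib.app_smul π U _ _).symm.trans (congrArg (π.app U) ?_)
    exact (mul_smul (show Γ(X, U) from c) r₀ tU).symm
  have htop := mul_self_eq_top V h1 (by omega) hcod hI
  -- the decomposition
  let G : AddSubmonoid Γ(CohB1.tensorMod L L, ⊤) := AddSubmonoid.closure (Set.range fun p : Γ(L, ⊤) × Γ(L, ⊤) =>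
      (shT p.1 p.2 : Γ(CohB1.tensorMod L L, ⊤)))
  let tt : Γ(CohB1.tensorMod L L, U) := shT tU tU
  have hV2 : ∀ a : A, a ∈ V * V → ∃ T ∈ G, ∃ r : R,
      res (CohB1.tensorMod L L) (le_top : U ≤ ⊤) T = (r : Γ(X, U)) • tt ∧ Ideal.Quotient.mk I r = a := by
    intro a ha
    induction ha using Submodule.mul_induction_on' with
    | mem_mul_mem x hx y hy =>
      obtain ⟨σ, r, hσ, rfl⟩ := hVsurj x hx
      obtain ⟨σ', r', hσ', rfl⟩ := hVsurj y hy
      refine ⟨shT σ σ', AddSubmonoid.subset_closure ⟨(σ, σ'), rfl⟩, r * r', ?_, map_mul _ _ _⟩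
      rw [AmpleLib.shT_res, hσ, hσ', AmpleLib.shT_smul]
    | add x _ y _ hx hy =>
      obtain ⟨T, hT, r, e1, rfl⟩ := hx
      obtain ⟨T', hT', r', e2, rfl⟩ := hy
      refine ⟨T + T', add_mem hT hT', r + r', ?_, map_add _ _ _⟩
      exact (map_add _ T T').trans ((congrArg₂ (· + ·) e1 e2).trans (add_smul (r : Γ(X, U)) r' tt).symm)
  obtain ⟨r₂, hr₂⟩ := (AmpleThLib.shT_genOn htU htU U le_rfl).2 (res _ (le_top : U ≤ ⊤) τ)
  simp only [AmpleLib.res_refl] at hr₂
  obtain ⟨T, hT, r, hTr, hr⟩ := hV2 (Ideal.Quotient.mk I (show R from r₂)) (htop ▸ Submodule.mem_top)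
  -- the difference is a multiple of `s`
  have hTS := HilbPolyLib.shortExact_tensor hL hS
  have hC0 : ((tL L).map π).app ⊤ (τ - T) = 0 := by
    refine TwistLib.mod_ext _ fun y _ => ?_
    rw [map_zero]
    rcases hcov y with hy | hy
    · rw [← AmpleLib.germ_res ((tL L).obj C) (le_top : U ≤ ⊤) _ hy]
      suffices h : res ((tL L).obj C) (le_top : U ≤ ⊤) (((tL L).map π).app ⊤ (τ - T)) = 0 by rw [h, map_zero]
      refine (QCohLib.app_map ((tL L).map π) (homOfLE le_top) _).symm.trans ?_
      obtain ⟨c, hc⟩ := Ideal.mem_span_singleton'.1 (Ideal.Quotient.eq.1 hr.symm)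
      have e1 : res (CohB1.tensorMod L L) (le_top : U ≤ ⊤) (τ - T) =
          (c : Γ(X, U)) • (shT tU (res L (le_top : U ≤ ⊤) s) : Γ(CohB1.tensorMod L L, U)) := by
        refine (map_sub _ τ T).trans ((congrArg₂ (· - ·) hr₂.symm hTr).trans ?_)
        rw [← hf, shT_smul₂, smul_smul]
        exact (sub_smul (r₂ : Γ(X, U)) r tt).symm.trans (congrArg (fun z : Γ(X, U) => z • tt) hc.symm)
      refine (congrArg (((tL L).map π).app U) e1).trans ?_
      rw [QCohLib.app_smul]
      refine (congrArg ((c : Γ(X, U)) • ·) ?_).trans (smul_zero _)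
      refine (KFlatLib.tensorBi_map₂_shTm L π _ _).trans ?_
      have h2 : π.app U (res L (le_top : U ≤ ⊤) s) = 0 := by
        rw [← one_smul Γ(X, U) (res L (le_top : U ≤ ⊤) s)]
        refine (congrArg (π.app U) (unitHom_app L s U (1 : Γ(X, U))).symm).trans ?_
        show (φ ≫ π).app U _ = 0
        rw [cokernel.condition]; rfl
      rw [h2]
      exact GenusZeroLib.shT_zero_right _
    · haveI : Subsingleton (((tL L).obj C).presheaf.stalk y) := not_not.mp fun h =>
        hW y hy ((HilbPolyLib.support_tensor hL C).le h)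
      exact Subsingleton.elim _ _
  obtain ⟨z, hz⟩ := QCohLib.exists_of_app_eq_zero hTS.exact hTS.mono_f (U := ⊤) (τ - T) hC0
  obtain ⟨μ, hμ, hμ'⟩ := SerreVanLib.exists_unit_iso L
  haveI := hμ
  have hz' : z = (shT (μ.app ⊤ z) (show Γ(Coh.structureModule X, ⊤) from (1 : Γ(X, ⊤))) :
      Γ(CohB1.tensorMod L (Coh.structureModule X), ⊤)) :=
    (ConcreteCategory.bijective_of_isIso (μ.app ⊤)).1 ((hμ' ⊤ _ _).trans (one_smul Γ(X, ⊤) _)).symm
  have hzs : ((tL L).map φ).app ⊤ z = (shT (μ.app ⊤ z) s : Γ(CohB1.tensorMod L L, ⊤)) := by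
    refine (congrArg (((tL L).map φ).app ⊤) hz').trans ((KFlatLib.tensorBi_map₂_shTm L φ _ _).trans ?_)
    exact congrArg (shT _) ((unitHom_app L s ⊤ _).trans ((one_smul Γ(X, ⊤) _).trans (AmpleLib.res_refl L s)))
  have : τ = T + shT (μ.app ⊤ z) s := by
    rw [← hzs]
    exact (add_sub_cancel T τ).symm.trans (congrArg (T + ·) hz.symm)
  rw [this]
  exact add_mem hT (AddSubmonoid.subset_closure ⟨(μ.app ⊤ z, s), rfl⟩)

include hdim hg in
/-- The section ring of a module of degree at least three is generated in degree one. -/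
theorem mul_surjective_genus_one [Infinite k] {L : X.Modules} (hL : PicF.IsInvertible L)
    (hdeg : 3 ≤ Curv2.deg k X L 1) (hgg : Curv2.IsGloballyGenerated L) (h1 : Subsingleton (Coh.HH X L 1))
    {m : ℕ} (v : Fin m → Γ(L, ⊤)) (hspan : ∀ σ : Γ(L, ⊤), ∃ c : Fin m → Γ(X, ⊤), σ = ∑ l, c l • v l)
    (hcov : ∀ x : X, ∃ l, x ∈ genSet hL (v l)) (n : ℕ) (τ : Γ(CohB1.tensorPow L (n + 1), ⊤)) :
    ∃ u : Fin m → Γ(CohB1.tensorPow L n, ⊤),
      τ = ∑ l, (shT (u l) (v l) : Γ(CohB1.tensorMod (CohB1.tensorPow L n) L, ⊤)) := by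
  classical
  haveI := CurvLib.isNoetherian k (X := X)
  haveI : X.IsSeparated := ⟨by rw [← terminal.comp_from (X ↘ Spec (CommRingCat.of k))]; infer_instance⟩
  have hvan : ∀ N : X.Modules, Coh.IsQCoh N → Subsingleton (Coh.HH X N 2) := fun N _ =>
    CurvLib.subsingleton_HH_of_dim_le (d := 1) N (hdim.le.trans (by simp)) 2 one_lt_two
  match n with
  | 0 =>
    obtain ⟨μ, hμ, hμ'⟩ := exists_unit_iso' hL
    haveI := hμ
    let σ : Γ(L, ⊤) := μ.app ⊤ (show Γ(CohB1.tensorMod (Coh.structureModule X) L, ⊤) from τ)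
    obtain ⟨c, hc⟩ := hspan σ
    refine ⟨fun l => (show Γ(Coh.structureModule X, ⊤) from c l),
      (ConcreteCategory.bijective_of_isIso (μ.app ⊤)).1 ?_⟩
    refine (show μ.app ⊤ _ = σ from rfl).trans ?_
    rw [map_sum, hc]
    exact Finset.sum_congr rfl fun l _ => (hμ' ⊤ (c l) (v l)).symm
  | 1 =>
    obtain ⟨μ, hμ, hμ'⟩ := exists_unit_iso' hL
    haveI := hμ
    let G : CohB1.tensorMod (CohB1.tensorMod (Coh.structureModule X) L) L ⟶ CohB1.tensorMod L L :=
      ((DCoh.tensorBi (X := X)).map μ).app L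
    have hG : ∀ (a : Γ(CohB1.tensorMod (Coh.structureModule X) L, ⊤)) (b : Γ(L, ⊤)),
        G.app ⊤ (shT a b) = shT (μ.app ⊤ a) b := fun a b => KFlatLib.tensorBi_map₁_shTm μ L a b
    haveI : IsIso G := inferInstance
    have hmem := mul_two k hdim hg hL hdeg hgg
      (G.app ⊤ (show Γ(CohB1.tensorMod (CohB1.tensorMod (Coh.structureModule X) L) L, ⊤) from τ))
    suffices h : ∀ T ∈ AddSubmonoid.closure (Set.range fun p : Γ(L, ⊤) × Γ(L, ⊤) =>
        (shT p.1 p.2 : Γ(CohB1.tensorMod L L, ⊤))), ∃ u : Fin m → Γ(CohB1.tensorPow L 1, ⊤),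
        T = G.app ⊤ (∑ l, (shT (u l) (v l) : Γ(CohB1.tensorMod (CohB1.tensorPow L 1) L, ⊤))) by
      obtain ⟨u, hu⟩ := h _ hmem
      exact ⟨u, (ConcreteCategory.bijective_of_isIso (G.app ⊤)).1 hu⟩
    intro T hT
    induction hT using AddSubmonoid.closure_induction with
    | mem x hx =>
      obtain ⟨⟨a, b⟩, rfl⟩ := hx
      obtain ⟨c, hc⟩ := hspan b
      obtain ⟨a', ha'⟩ := (ConcreteCategory.bijective_of_isIso (μ.app ⊤)).2 a
      refine ⟨fun l => c l • (show Γ(CohB1.tensorPow L 1, ⊤) from a'), ?_⟩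
      rw [map_sum]
      show (shT a b : Γ(CohB1.tensorMod L L, ⊤)) = _
      rw [hc, shT_sum_right']
      refine Finset.sum_congr rfl fun l _ => ?_
      refine Eq.trans ?_ (hG _ (v l)).symm
      refine Eq.trans ?_ (congrArg (fun z => shT z (v l)) (QCohLib.app_smul μ ⊤ (c l) a')).symm
      rw [ha', shT_smul₁, shT_smul₂]
    | zero => exact ⟨0, by simp [GenusZeroLib.shT_zero_left]⟩
    | add x y _ _ hx hy =>
      obtain ⟨u, rfl⟩ := hx
      obtain ⟨u', rfl⟩ := hy
      refine ⟨u + u', ?_⟩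
      rw [← map_add, ← Finset.sum_add_distrib]
      exact congrArg _ (Finset.sum_congr rfl fun l _ => (GenusZeroLib.shT_add_left _ _ _).symm)
  | p + 2 =>
    have hp : ∀ j, Subsingleton (Coh.HH X (CohB1.tensorPow L (j + 1)) 1) := fun j => by
      induction j with
      | zero => exact h1_iso (KFlatLib.tensUnitIso L).symm h1
      | succ j ih =>
        exact h1_tensor_gg hvan (CurvLib.isCoh_of_isInvertible (AmpleThLib.tensorPow_isInvertible hL (j + 1))).1
          ih hL hgg
    exact mul_surjective_pow hL v hvan hgg hcov hspan (p + 1) (hp p) τ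


end NefH1Lib
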