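import Groth.Agent.NefH1Lib.GenusOne
import Groth.Agent.NefH1Lib.Field
import Groth.Agent.GenusZeroLib.PointIdeal
import Groth.Agent.NormFin.Field
import Groth.Agent.NormalLib.N1Local
import Groth.Agent.NormalLib.Regular

/-!
# Regular points of least degree on curves of genus zero
-/

set_option autoImplicit false
set_option linter.style.haveILetI false
set_option linter.unusedSectionVars false
set_option maxHeartbeats 1000000
set_option backward.isDefEq.respectTransparency false
set_option backward.isDefEq.respectTransparency.types false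
universe u

open CategoryTheory CategoryTheory.Limits AlgebraicGeometry TopologicalSpace Opposite
open QCohLib
open AmpleLib (shT res GenOn GenAt)
open TwistLib (genSet)
open DevissLib (St gm)

noncomputable section

namespace NefH1Lib

variable (k : Type u) [Field k] {X : Scheme.{u}} [X.Over (Spec (CommRingCat.of k))]
  [IsProper (X ↘ Spec (CommRingCat.of k))] [IsIntegral X] (hdim : topologicalKrullDim X = 1)

/-- the residue degree -/
abbrev ptDeg (x : X) : ℕ := letI := Curv2.resAlgebra k X x; Module.finrank k (X.residueField x)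

include k hdim in
/-- A normal closed point is a discrete valuation ring; so is a regular one. -/
theorem dvr_of_regular {x : X} (hx : IsClosed ({x} : Set X)) (hr : IsRegularLocalRing (X.presheaf.stalk x)) :
    IsDiscreteValuationRing (X.presheaf.stalk x) :=
  haveI := hr
  GenusZeroLib.isDiscreteValuationRing_stalk k hdim hx (NormalLib.isIntegrallyClosed_of_isRegularLocalRing _)

include k hdim in
/-- The functions on a regular point. -/
theorem finrank_h0_point {x : X} (hx : IsClosed ({x} : Set X)) (hr : IsRegularLocalRing (X.presheaf.stalk x)) :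
    Module.finrank k (Coh.HH X (ClSub.quotMod (Scheme.IdealSheafData.vanishingIdeal ⟨{x}, hx⟩)) 0) = ptDeg k x := by
  haveI := CurvLib.isNoetherian k (X := X)
  haveI := dvr_of_regular k hdim hx hr
  obtain ⟨L, ⟨e⟩, hL, hd⟩ := GenusZeroLib.exists_idealMod_iso (k := k) hx hdim
  let I := GenusZeroLib.ptIdeal hx
  have hQ : Coh.IsCoh (ClSub.quotMod I) := CurvLib.isCoh_quotMod I
  have hsupp : CohB1.support (ClSub.quotMod I) ⊆ ({x} : Set X) := fun y hy =>
    (Scheme.IdealSheafData.coe_support_vanishingIdeal _).le (CurvLib.support_quotMod_subset I hy)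
  haveI : Subsingleton (CohB1.support (ClSub.quotMod I)) :=
    ⟨fun a b => Subtype.ext ((Set.mem_singleton_iff.1 (hsupp a.2)).trans (Set.mem_singleton_iff.1 (hsupp b.2)).symm)⟩
  have hd0 : topologicalKrullDim (CohB1.support (ClSub.quotMod I)) ≤ 0 :=
    topologicalKrullDim_zero_of_discreteTopology _
  have hIc : Coh.IsCoh (ClSub.idealMod I) := QCohLib.isCoh_of_iso e (CurvLib.isCoh_of_isInvertible hL)
  have he := CurvLib.euler_add_of_isCoh (k := k) (CurvLib.idealSeq_shortExact I) hIc
    (CurvLib.isCoh_of_isInvertible CurvLib.isInvertible_structureModule) hQ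
  change Curv2.euler k X (Coh.structureModule X) =
    Curv2.euler k X (ClSub.idealMod I) + Curv2.euler k X (ClSub.quotMod I) at he
  rw [CurvLib.euler_eq_h0 (k := k) hQ hd0, ← CurvLib.euler_congr (k := k) e] at he
  rw [Curv2.deg] at hd
  have : (Module.finrank k (Coh.HH X (ClSub.quotMod I) 0) : ℤ) = (ptDeg k x : ℤ) := by
    push_cast at hd
    simp only [ptDeg]
    linarith
  exact_mod_cast this

include k hdim in
/-- A nonzero section vanishing somewhere forces positive degree. -/
theorem deg_pos_of_not_genAt {L : X.Modules} (hL : PicF.IsInvertible L) {s : Γ(L, ⊤)} (hs : s ≠ 0) {x : X}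
    (hx : ¬ GenAt L s (show x ∈ (⊤ : X.Opens) from trivial)) : 0 < Curv2.deg k X L 1 := by
  by_contra h
  have hle : Curv2.euler k X L ≤ Curv2.euler k X (Coh.structureModule X) := by
    rw [Curv2.deg] at h
    push_cast at h
    omega
  haveI := CurvLib.isIso_of_euler_le (k := k) CurvLib.isInvertible_structureModule hL hdim
    (RRVanLib.unitHom_ne_zero hs) hle
  have hb : Function.Bijective ((St x).map (unitHom L s)).hom :=
    ConcreteCategory.bijective_of_isIso ((St x).map (unitHom L s))
  refine hx ?_
  have h1 := hb.comp ((AmpleLib.one_genOn (X := X) ⊤).genAt (show x ∈ (⊤ : X.Opens) from trivial))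
  have e : ((St x).map (unitHom L s)).hom ((Coh.structureModule X).presheaf.germ ⊤ x trivial (1 : Γ(X, ⊤))) =
      L.presheaf.germ ⊤ x trivial s := by
    refine (DerSch.stalkFunctor_map_germ x (unitHom L s) ⊤ trivial _).trans ?_
    rw [QCohLib.unitHom_app, one_smul]
    exact AmpleLib.germ_res L _ s _
  have e2 : (fun c : X.presheaf.stalk x => c • L.presheaf.germ ⊤ x trivial s) =
      ((St x).map (unitHom L s)).hom ∘ fun c : X.presheaf.stalk x =>
        c • (Coh.structureModule X).presheaf.germ ⊤ x trivial (1 : Γ(X, ⊤)) :=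
    funext fun c => ((((St x).map (unitHom L s)).hom.map_smul c _).trans (congrArg (c • ·) e)).symm
  show Function.Bijective fun c : X.presheaf.stalk x => c • L.presheaf.germ ⊤ x trivial s
  rw [e2]
  exact h1

include k hdim in
/-- A section generating everywhere forces degree zero. -/
theorem exists_not_genAt {L : X.Modules} (hL : PicF.IsInvertible L) (hd : Curv2.deg k X L 1 ≠ 0)
    {s : Γ(L, ⊤)} (hs : s ≠ 0) : ∃ x : X, ¬ GenAt L s (show x ∈ (⊤ : X.Opens) from trivial) := by
  haveI := CurvLib.isNoetherian k (X := X)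
  by_contra hno
  push Not at hno
  refine hd ?_
  have hsur : ∀ y : X, Function.Surjective ((St y).map (unitHom L s)).hom := fun y =>
    surjective_stalk_unitHom s (hno y)
  have he := GenusZeroLib.euler_eq_add_stalkDim (k := k) hdim CurvLib.isInvertible_structureModule hL
    (RRVanLib.unitHom_ne_zero hs) (x := genericPoint X) fun y _ => hsur y
  haveI : Subsingleton ((St (genericPoint X)).obj (cokernel (unitHom L s))) :=
    not_not.mp (DevissLib.notMem_support_cokernel (unitHom L s) (genericPoint X) (hsur (genericPoint X)))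
  have h0 : CurvLib.stalkDim k (cokernel (unitHom L s)) (genericPoint X) = 0 := by
    letI := CurvLib.stalkModule (k := k) (cokernel (unitHom L s)) (genericPoint X)
    exact Module.finrank_zero_of_subsingleton
  rw [h0] at he
  rw [Curv2.deg, he]
  push_cast
  ring

include k hdim in
/-- A regular point where a nonzero section vanishes has degree at most that of the module. -/
theorem ptDeg_le_deg {L : X.Modules} (hL : PicF.IsInvertible L) {s : Γ(L, ⊤)} (hs : s ≠ 0) {x : X}
    (hc : IsClosed ({x} : Set X)) (hr : IsRegularLocalRing (X.presheaf.stalk x))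
    (hx : ¬ GenAt L s (show x ∈ (⊤ : X.Opens) from trivial)) : (ptDeg k x : ℤ) ≤ Curv2.deg k X L 1 := by
  haveI := dvr_of_regular k hdim hc hr
  obtain ⟨L', q, hL', -, hd, hrange⟩ := GenusZeroLib.exists_twist_down (k := k) hdim hc hL
  obtain ⟨t, ht⟩ := (hrange ⊤ s).mpr fun _ => hx
  have ht0 : t ≠ 0 := fun h => hs (by rw [← ht, h]; exact map_zero (q.app ⊤).hom)
  have := CurvLib.euler_le (k := k) CurvLib.isInvertible_structureModule hL' hdim (RRVanLib.unitHom_ne_zero ht0)
  simp only [Curv2.deg, ptDeg] at hd ⊢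
  push_cast at hd ⊢
  linarith

include k hdim in
/-- A regular point gives a module of that positive degree. -/
theorem exists_point_bundle' {x : X} (hc : IsClosed ({x} : Set X)) (hr : IsRegularLocalRing (X.presheaf.stalk x)) :
    0 < ptDeg k x ∧ ∃ L : X.Modules, PicF.IsInvertible L ∧ Curv2.deg k X L 1 = (ptDeg k x : ℤ) := by
  haveI := dvr_of_regular k hdim hc hr
  obtain ⟨L, hL, s, hd, hs, hgen⟩ := GenusZeroLib.exists_point_bundle (k := k) hdim hc
  have hx : ¬ GenAt L s (show x ∈ (⊤ : X.Opens) from trivial) := fun h => (hgen x).1 h rfl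
  have := deg_pos_of_not_genAt k hdim hL hs hx
  refine ⟨?_, L, hL, hd⟩
  rw [hd] at this
  exact_mod_cast this

include k hdim in
/-- All but finitely many closed points are regular. -/
theorem exists_regular_open : ∃ D : X.Opens, (D : Set X).Nonempty ∧
    ∀ x ∈ D, IsClosed ({x} : Set X) → IsRegularLocalRing (X.presheaf.stalk x) := by
  haveI := CurvLib.isNoetherian k (X := X)
  obtain ⟨_, ⟨W, hW, rfl⟩, hηW, -⟩ :=
    X.isBasis_affineOpens.exists_subset_of_mem_open (Set.mem_univ (genericPoint X)) isOpen_univ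
  haveI : Nonempty W := ⟨⟨_, hηW⟩⟩
  letI : Algebra k Γ(X, W) :=
    ((X.presheaf.map (homOfLE (le_top : W ≤ ⊤)).op).hom.comp (GenusZeroLib.ρ k)).toAlgebra
  haveI : Algebra.FiniteType k Γ(X, W) := by
    have h1 : ((X ↘ Spec (CommRingCat.of k)).appLE ⊤ W le_top).hom.FiniteType :=
      (X ↘ Spec (CommRingCat.of k)).finiteType_appLE (isAffineOpen_top _) hW le_top
    exact h1.comp (RingHom.FiniteType.of_surjective _
      (ConcreteCategory.bijective_of_isIso (Scheme.ΓSpecIso (CommRingCat.of k)).inv).surjective)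
  haveI : IsNoetherianRing Γ(X, W) := Algebra.FiniteType.isNoetherianRing k _
  obtain ⟨f, hf, hfn⟩ := (NormalLib.isN1_iff.1 (show CAlg.IsN1 Γ(X, W) from
    NormFinLib.finite_integralClosure_of_finiteType_field k Γ(X, W) (FractionRing Γ(X, W)) (FractionRing Γ(X, W)))).1
  refine ⟨X.basicOpen f, ?_, fun x hx hc => ?_⟩
  · by_contra h
    exact hf ((basicOpen_eq_bot_iff f).mp (Opens.ext (Set.not_nonempty_iff_eq_empty.mp h)))
  · have hxW : x ∈ W := X.basicOpen_le f hx
    let p := (hW.primeIdealOf ⟨x, hxW⟩).asIdeal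
    letI : Algebra Γ(X, W) Γ(X, X.basicOpen f) := (X.presheaf.map (homOfLE (X.basicOpen_le f)).op).hom.toAlgebra
    haveI := hW.isLocalization_basicOpen f
    haveI : IsIntegrallyClosed Γ(X, X.basicOpen f) := IsIntegrallyClosed.of_equiv
      (IsLocalization.algEquiv (Submonoid.powers f) (Localization.Away f) Γ(X, X.basicOpen f)).toRingEquiv
    haveI : Nonempty (X.basicOpen f) := ⟨⟨x, hx⟩⟩
    let hB := hW.basicOpen f
    letI := TopCat.Presheaf.algebra_section_stalk X.presheaf (⟨x, hx⟩ : X.basicOpen f)
    haveI := hB.isLocalization_stalk ⟨x, hx⟩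
    have hn : IsIntegrallyClosed (X.presheaf.stalk x) :=
      isIntegrallyClosed_of_isLocalization _ (hB.primeIdealOf ⟨x, hx⟩).asIdeal.primeCompl
        (Ideal.primeCompl_le_nonZeroDivisors _)
    haveI := GenusZeroLib.isDiscreteValuationRing_stalk k hdim hc hn
    infer_instance

include k hdim in
/-- In genus zero a module of positive degree is globally generated. -/
theorem gg_of_deg_pos (h1 : Subsingleton (Coh.HH X (Coh.structureModule X) 1)) {L : X.Modules}
    (hL : PicF.IsInvertible L) (hd : 0 < Curv2.deg k X L 1) : Curv2.IsGloballyGenerated L := by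
  haveI := CurvLib.isNoetherian k (X := X)
  haveI : X.IsSeparated := ⟨by rw [← terminal.comp_from (X ↘ Spec (CommRingCat.of k))]; infer_instance⟩
  have hA := SerreVanLib.isAmple_of_deg_pos hdim hL hd
  have hnef : Nef' k L := fun Z i hi hZ hdZ => by
    haveI := hi
    haveI := hZ
    letI : Z.Over (Spec (CommRingCat.of k)) := ⟨i ≫ (X ↘ Spec (CommRingCat.of k))⟩
    haveI : IsProper (Z ↘ Spec (CommRingCat.of k)) :=
      inferInstanceAs (IsProper (i ≫ (X ↘ Spec (CommRingCat.of k))))
    exact (SerreVanLib.deg_pos_of_isAmple (k := k) hdZ (AmpleDevLib.isAmple_pb i hL hA)).le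
  exact (gg_and_h1 k (hdim.le.trans (by simp)) h1 hL hnef).1

include k hdim in
/-- There is a regular closed point. -/
theorem exists_regular_point : ∃ x : X, IsClosed ({x} : Set X) ∧ IsRegularLocalRing (X.presheaf.stalk x) := by
  obtain ⟨D, hne, hD⟩ := exists_regular_open k hdim
  haveI : JacobsonSpace X := LocallyOfFiniteType.jacobsonSpace (X ↘ Spec (CommRingCat.of k))
  obtain ⟨x, hx, hxc⟩ := nonempty_inter_closedPoints hne D.2.isLocallyClosed
  exact ⟨x, hxc, hD x hx hxc⟩

include k hdim in
/-- In genus zero over an infinite field a module of positive degree bounds the degree of regular points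
avoiding any finite set. -/
theorem exists_point_le_deg [Infinite k] (h1 : Subsingleton (Coh.HH X (Coh.structureModule X) 1)) {L : X.Modules}
    (hL : PicF.IsInvertible L) (hd : 0 < Curv2.deg k X L 1) {F : Set X} (hF : F.Finite) :
    ∃ x : X, x ∉ F ∧ IsClosed ({x} : Set X) ∧ IsRegularLocalRing (X.presheaf.stalk x) ∧
      (ptDeg k x : ℤ) ≤ Curv2.deg k X L 1 := by
  obtain ⟨D, hne, hD⟩ := exists_regular_open k hdim
  obtain ⟨hDf, -⟩ := SerreVanLib.proper_closed_finite k hdim D.2.isClosed_compl fun h => by
    obtain ⟨y, hy⟩ := hne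
    exact (h.ge (Set.mem_univ y)) hy
  let T : Set X := insert (genericPoint X) (F ∪ (D : Set X)ᶜ)
  obtain ⟨t, ht⟩ := exists_genAt_finite k hL
    (Groth.Agent.S1611.exists_genAt_of_gg hL (gg_of_deg_pos k hdim h1 hL hd))
    (F := T) ((hF.union hDf).insert _)
  have ht0 : t ≠ 0 := fun h => by
    have h2 := ht (genericPoint X) (Set.mem_insert _ _)
    rw [h] at h2
    exact SerreVanLib.zero_not_genAt h2
  obtain ⟨x, hx⟩ := exists_not_genAt k hdim hL hd.ne' ht0
  have hxT : x ∉ T := fun h => hx (ht x h)
  have hxc : IsClosed ({x} : Set X) := by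
    refine (SerreVanLib.proper_closed_finite k hdim (genSet hL t).2.isClosed_compl ?_).2 x hx
    exact fun h => (h.ge (Set.mem_univ (genericPoint X))) (ht _ (Set.mem_insert _ _))
  have hxD : x ∈ D := not_not.mp fun h => hxT (Set.mem_insert_of_mem _ (Or.inr h))
  exact ⟨x, fun h => hxT (Set.mem_insert_of_mem _ (Or.inl h)), hxc, hD x hxD hxc,
    ptDeg_le_deg k hdim hL ht0 hxc (hD x hxD hxc) hx⟩

include k hdim in
/-- In genus zero over an infinite field there are infinitely many regular points of least degree. -/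
theorem min_points_infinite [Infinite k] (h1 : Subsingleton (Coh.HH X (Coh.structureModule X) 1)) :
    {x : X | IsClosed ({x} : Set X) ∧ IsRegularLocalRing (X.presheaf.stalk x) ∧
      ∀ y : X, IsClosed ({y} : Set X) → IsRegularLocalRing (X.presheaf.stalk y) → ptDeg k x ≤ ptDeg k y}.Infinite := by
  classical
  intro hfin
  obtain ⟨x₀, hx₀⟩ := exists_regular_point k hdim
  have hex : ∃ n, ∃ x : X, IsClosed ({x} : Set X) ∧ IsRegularLocalRing (X.presheaf.stalk x) ∧ ptDeg k x = n :=
    ⟨_, x₀, hx₀.1, hx₀.2, rfl⟩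
  obtain ⟨P, hPc, hPr, hPd⟩ := Nat.find_spec hex
  obtain ⟨hpos, L, hL, hd⟩ := exists_point_bundle' k hdim hPc hPr
  obtain ⟨x, hxF, hxc, hxr, hle⟩ := exists_point_le_deg k hdim h1 hL (by rw [hd]; exact_mod_cast hpos) hfin
  refine hxF ⟨hxc, hxr, fun y hyc hyr => ?_⟩
  have hle' : ptDeg k x ≤ ptDeg k P := by
    rw [hd] at hle
    exact_mod_cast hle
  exact hle'.trans (hPd.le.trans (Nat.find_min' hex ⟨y, hyc, hyr, rfl⟩))

end NefH1Lib

end
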