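import Groth.Agent.NefH1Lib.Mult
import Groth.Agent.GrSysLib.Sheaf

/-!
# Koszul relations and multiplication of sections
-/

set_option autoImplicit false
set_option linter.style.haveILetI false
set_option maxHeartbeats 4000000
set_option backward.isDefEq.respectTransparency false
set_option backward.isDefEq.respectTransparency.types false
universe u

open CategoryTheory CategoryTheory.Limits AlgebraicGeometry TopologicalSpace Opposite
open QCohLib
open AmpleLib (shT res GenOn)
open TwistLib (genSet)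

noncomputable section

namespace NefH1Lib

variable {X : Scheme.{u}}

/-- Tensoring on the left. -/
abbrev tL (P : X.Modules) : X.Modules ⥤ X.Modules := (DCoh.tensorBi (X := X)).obj P

theorem shT_smul₁ {M N : X.Modules} {W : X.Opens} (r : Γ(X, W)) (m : Γ(M, W)) (n : Γ(N, W)) :
    shT (r • m) n = r • shT m n := by
  have := AmpleLib.shT_smul r 1 m n
  rwa [one_smul, mul_one] at this

theorem shT_smul₂ {M N : X.Modules} {W : X.Opens} (r : Γ(X, W)) (m : Γ(M, W)) (n : Γ(N, W)) :
    shT m (r • n) = r • shT m n := by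
  have := AmpleLib.shT_smul 1 r m n
  rwa [one_smul, one_mul] at this

/-- Sections of an invertible module commute in the tensor square. -/
theorem shT_comm {L : X.Modules} (hL : PicF.IsInvertible L) (a b : Γ(L, ⊤)) :
    (shT a b : Γ(CohB1.tensorMod L L, ⊤)) = shT b a := by
  refine TwistLib.mod_ext (CohB1.tensorMod L L) fun x hx => ?_
  obtain ⟨W, e, hxW, he⟩ := TwistLib.exists_genOn hL x
  rw [← AmpleLib.germ_res (CohB1.tensorMod L L) (le_top : W ≤ ⊤) (shT a b) (x := x) hxW,
    ← AmpleLib.germ_res (CohB1.tensorMod L L) (le_top : W ≤ ⊤) (shT b a) (x := x) hxW,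
    AmpleLib.shT_res, AmpleLib.shT_res]
  obtain ⟨r, hr⟩ := (he W le_rfl).2 (res L le_top a)
  obtain ⟨s, hs⟩ := (he W le_rfl).2 (res L le_top b)
  rw [← hr, ← hs, AmpleLib.shT_smul, AmpleLib.shT_smul, mul_comm]

/-- The global sections giving the basis of a free module. -/
def bas (X : Scheme.{u}) {m : ℕ} (i : Fin m) (V : X.Opens) : Γ(freeFin X m, V) :=
  (biproduct.ι (fun _ : Fin m => Coh.structureModule X) i).app V (show Γ(Coh.structureModule X, V) from (1 : Γ(X, V)))

theorem bas_res {m : ℕ} (i : Fin m) (V : X.Opens) :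
    res (freeFin X m) (le_top : V ≤ ⊤) (bas X i ⊤) = bas X i V := by
  refine (QCohLib.app_map _ _ _).symm.trans ?_
  exact congrArg _ (map_one (X.presheaf.map (homOfLE (le_top : V ≤ ⊤)).op).hom)

theorem combHom_bas {L : X.Modules} {m : ℕ} (v : Fin m → Γ(L, ⊤)) (i : Fin m) (V : X.Opens) :
    (combHom v).app V (bas X i V) = res L le_top (v i) := by
  rw [bas, ← ConcreteCategory.comp_apply, ← Scheme.Modules.Hom.comp_app, combHom, biproduct.ι_desc, unitHom_app]
  exact one_smul Γ(X, V) _

variable {L : X.Modules} (hL : PicF.IsInvertible L) {m : ℕ} (v : Fin m → Γ(L, ⊤))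

/-- A Koszul relation. -/
def kap (p : Fin m × Fin m) : Γ((tL L).obj (freeFin X m), ⊤) :=
  (shT (v p.2) (bas X p.1 ⊤) : Γ(CohB1.tensorMod L (freeFin X m), ⊤)) - shT (v p.1) (bas X p.2 ⊤)

include hL in
theorem kap_mem (p : Fin m × Fin m) : ((tL L).map (combHom v)).app ⊤ (kap v p) = 0 := by
  rw [kap, map_sub]
  refine sub_eq_zero.2 ?_
  refine (KFlatLib.tensorBi_map₂_shTm L (combHom v) _ _).trans ?_
  refine Eq.trans ?_ (KFlatLib.tensorBi_map₂_shTm L (combHom v) _ _).symm
  rw [combHom_bas, combHom_bas, AmpleLib.res_refl, AmpleLib.res_refl]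
  exact shT_comm hL _ _

/-- The Koszul morphism into the kernel. -/
def koszul : (⨁ fun _ : Fin m × Fin m => Coh.structureModule X) ⟶ kernel ((tL L).map (combHom v)) :=
  biproduct.desc fun p => kernel.lift _ (unitHom ((tL L).obj (freeFin X m)) (kap v p))
    (by
      rw [QCohLib.app_unitHom_app, kap_mem hL v p]
      refine Scheme.Modules.hom_ext _ _ fun U => ?_
      ext r
      rw [unitHom_app, map_zero, smul_zero]
      rfl)

include hL in
/-- The Koszul relations generate all relations. -/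
theorem epi_koszul (hcov : ∀ x : X, ∃ l, x ∈ genSet hL (v l))
    [Coh.IsQCoh (kernel ((tL L).map (combHom v)))] : Epi (koszul hL v) := by
  classical
  let ι' := {V : X.affineOpens // ∃ l, V.1 ≤ genSet hL (v l)}
  refine GrSysLib.epi_of_surjective_on_cover (koszul hL v) (fun V : ι' => V.1.1) (fun V => V.1.2) (fun x => ?_) ?_
  · obtain ⟨l, hl⟩ := hcov x
    obtain ⟨W, hW, hxW, hle⟩ := exists_isAffineOpen_mem_and_subset hl
    exact ⟨⟨⟨W, hW⟩, l, hle⟩, hxW⟩
  rintro ⟨⟨V, hV⟩, l, hl⟩ z
  let g := (tL L).map (combHom v)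
  let w := (kernel.ι g).app V z
  have hσ : GenOn L (res L (le_top : V ≤ ⊤) (v l)) := by
    have h := (TwistLib.genSet_genOn hL (v l)).res hl
    rwa [AmpleLib.res_res] at h
  let σ := res L (le_top : V ≤ ⊤) (v l)
  obtain ⟨μ, hμ, hμ'⟩ := SerreVanLib.exists_unit_iso L
  haveI := hμ
  have hc : ∀ i, ∃ c : Γ(X, V), ((tL L).map (biproduct.π (fun _ : Fin m => Coh.structureModule X) i)).app V w =
      c • (shT σ (show Γ(Coh.structureModule X, V) from (1 : Γ(X, V))) :
        Γ(CohB1.tensorMod L (Coh.structureModule X), V)) := fun i => by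
    let a : Γ(CohB1.tensorMod L (Coh.structureModule X), V) :=
      ((tL L).map (biproduct.π (fun _ : Fin m => Coh.structureModule X) i)).app V w
    have hσ' : Function.Bijective fun r : Γ(X, V) => r • σ := by
      simpa only [AmpleLib.res_refl] using hσ V le_rfl
    obtain ⟨c, hc⟩ := hσ'.2 (μ.app V a)
    refine ⟨c, (ConcreteCategory.bijective_of_isIso (μ.app V)).1 ?_⟩
    rw [← shT_smul₁]
    exact (show μ.app V a = c • σ from hc.symm).trans ((hμ' V _ _).trans (one_smul Γ(X, V) _)).symm
  choose c hc using hc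
  have hw : w = ∑ i, c i • (shT σ (bas X i V) : Γ(CohB1.tensorMod L (freeFin X m), V)) := by
    have hid : w = ((tL L).map (𝟙 (freeFin X m))).app V w := by rw [CategoryTheory.Functor.map_id]; rfl
    rw [hid, ← biproduct.total, Functor.map_sum, app_finsum]
    refine Finset.sum_congr rfl fun i _ => ?_
    rw [Functor.map_comp]
    refine (congrArg (((tL L).map (biproduct.ι (fun _ : Fin m => Coh.structureModule X) i)).app V) (hc i)).trans ?_
    rw [QCohLib.app_smul]
    exact congrArg (c i • ·) (KFlatLib.tensorBi_map₂_shTm L _ _ _)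
  have hb : ∀ i, ∃ b : Γ(X, V), res L (le_top : V ≤ ⊤) (v i) = b • σ := fun i => by
    obtain ⟨b, hb⟩ := (hσ V le_rfl).2 (res L (le_top : V ≤ ⊤) (v i))
    refine ⟨b, hb.symm.trans ?_⟩
    simp only [AmpleLib.res_refl]
    rfl
  choose b hb using hb
  have hcb : ∑ i, c i * b i = 0 := by
    have h0 : g.app V w = 0 := by
      show g.app V ((kernel.ι g).app V z) = 0
      rw [← ConcreteCategory.comp_apply, ← Scheme.Modules.Hom.comp_app, kernel.condition]
      rfl
    rw [hw, map_sum] at h0
    have h1 : ∀ i, g.app V (c i • (shT σ (bas X i V) : Γ(CohB1.tensorMod L (freeFin X m), V))) =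
        (c i * b i) • (shT σ σ : Γ(CohB1.tensorMod L L, V)) := fun i => by
      refine (QCohLib.app_smul _ _ _ _).trans ((congrArg (c i • ·)
        (KFlatLib.tensorBi_map₂_shTm L (combHom v) σ (bas X i V))).trans ?_)
      rw [combHom_bas, hb i]
      show c i • (shT σ (b i • σ) : Γ(CohB1.tensorMod L L, V)) = _
      rw [shT_smul₂, smul_smul]
    rw [Finset.sum_congr rfl fun i _ => h1 i, ← Finset.sum_smul] at h0
    have hg := AmpleThLib.shT_genOn hσ hσ V le_rfl
    refine hg.1 ?_
    simp only [AmpleLib.res_refl, zero_smul]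
    exact h0
  refine ⟨∑ i, c i • (biproduct.ι (fun _ : Fin m × Fin m => Coh.structureModule X) (i, l)).app V
    (show Γ(Coh.structureModule X, V) from (1 : Γ(X, V))), ?_⟩
  refine QCohLib.app_injective_of_mono (kernel.ι g) V ?_
  rw [map_sum, map_sum]
  refine Eq.trans ?_ hw.symm
  have hterm : ∀ i, (kernel.ι g).app V ((koszul hL v).app V (c i •
      (biproduct.ι (fun _ : Fin m × Fin m => Coh.structureModule X) (i, l)).app V
        (show Γ(Coh.structureModule X, V) from (1 : Γ(X, V))))) =
      c i • (shT σ (bas X i V) : Γ(CohB1.tensorMod L (freeFin X m), V)) -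
        (c i * b i) • (shT σ (bas X l V) : Γ(CohB1.tensorMod L (freeFin X m), V)) := fun i => by
    rw [QCohLib.app_smul, QCohLib.app_smul]
    have h2 : (kernel.ι g).app V ((koszul hL v).app V
        ((biproduct.ι (fun _ : Fin m × Fin m => Coh.structureModule X) (i, l)).app V
          (show Γ(Coh.structureModule X, V) from (1 : Γ(X, V))))) =
        res _ (le_top : V ≤ ⊤) (kap v (i, l)) := by
      rw [← ConcreteCategory.comp_apply, ← Scheme.Modules.Hom.comp_app, ← ConcreteCategory.comp_apply,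
        ← Scheme.Modules.Hom.comp_app, koszul, biproduct.ι_desc_assoc, kernel.lift_ι, unitHom_app]
      exact one_smul Γ(X, V) _
    rw [h2, kap]
    refine (congrArg (c i • ·) (map_sub ((CohB1.tensorMod L (freeFin X m)).presheaf.map _).hom _ _)).trans ?_
    refine (smul_sub (c i) _ _).trans ?_
    congr 1
    · exact congrArg (c i • ·) ((AmpleLib.shT_res _ _ _).trans (congrArg (shT σ) (bas_res i V)))
    · refine (congrArg (c i • ·) ((AmpleLib.shT_res _ _ _).trans (congrArg (shT _) (bas_res l V)))).trans ?_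
      dsimp only
      rw [hb i, shT_smul₁, smul_smul]
  rw [Finset.sum_congr rfl fun i _ => hterm i, Finset.sum_sub_distrib, ← Finset.sum_smul, hcb, zero_smul,
    sub_zero]


theorem isQCoh_biprod_unit (ι : Type) [Finite ι] : Coh.IsQCoh (⨁ fun _ : ι => Coh.structureModule X) := by
  haveI := QCohLib.isQCoh_sigma (fun _ : ULift.{u} ι => Coh.structureModule X) fun _ => QCohLib.isQCoh_unit
  haveI : Coh.IsQCoh (∐ fun _ : ι => Coh.structureModule X) :=
    QCohLib.isQCoh_of_iso ((Sigma.whiskerEquiv (f := fun _ : ULift.{u} ι => Coh.structureModule X)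
      (g := fun _ : ι => Coh.structureModule X) Equiv.ulift (fun _ => Iso.refl _)))
  exact QCohLib.isQCoh_of_iso (biproduct.isoCoproduct _).symm

theorem isQCoh_tensor' {M N : X.Modules} (hM : Coh.IsQCoh M) (hN : PicF.IsInvertible N) :
    Coh.IsQCoh (CohB1.tensorMod N M) :=
  haveI := hM
  @QCohLib.isQCoh_of_iso _ _ _ (KFlatLib.tensSwap N M) (MiscFlat6.isQCoh_tensor hN)

variable (hvan : ∀ N : X.Modules, Coh.IsQCoh N → Subsingleton (Coh.HH X N 2))

include hvan in
/-- Multiplication is surjective one step past the vanishing of `H¹`. -/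
theorem mul_surjective_pow [CompactSpace X] [X.IsSeparated] [IsLocallyNoetherian X]
    (hgg : Curv2.IsGloballyGenerated L) (hcov : ∀ x : X, ∃ l, x ∈ genSet hL (v l))
    (hspan : ∀ σ : Γ(L, ⊤), ∃ c : Fin m → Γ(X, ⊤), σ = ∑ l, c l • v l) (p : ℕ)
    (hp : Subsingleton (Coh.HH X (CohB1.tensorPow L p) 1))
    (τ : Γ(CohB1.tensorPow L (p + 1 + 1), ⊤)) :
    ∃ u : Fin m → Γ(CohB1.tensorPow L (p + 1), ⊤),
      τ = ∑ l, (shT (u l) (v l) : Γ(CohB1.tensorMod (CohB1.tensorPow L (p + 1)) L, ⊤)) := by
  classical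
  haveI := epi_combHom hgg v hspan
  let P := CohB1.tensorPow L (p + 1)
  have hP : PicF.IsInvertible P := AmpleThLib.tensorPow_isInvertible hL (p + 1)
  have hP' : PicF.IsInvertible (CohB1.tensorPow L p) := AmpleThLib.tensorPow_isInvertible hL p
  have hLq := (CurvLib.isCoh_of_isInvertible hL).1
  have hE : Coh.IsQCoh (freeFin X m) := isQCoh_biprod_unit (Fin m)
  have hK : Coh.IsQCoh (kernel (combHom v)) := isQCoh_kernel_epi _ hE hLq
  have hS := kernel_shortExact (combHom v)
  have hT := HilbPolyLib.shortExact_tensor hP hS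
  have hTL := HilbPolyLib.shortExact_tensor hL hS
  haveI : Epi ((tL L).map (combHom v)) := hTL.epi_g
  have hTE : Coh.IsQCoh ((tL L).obj (freeFin X m)) := isQCoh_tensor' hE hL
  have hTLq : Coh.IsQCoh ((tL L).obj L) := isQCoh_tensor hLq hL
  haveI hKq : Coh.IsQCoh (kernel ((tL L).map (combHom v))) := isQCoh_kernel_epi _ hTE hTLq
  haveI := epi_koszul hL v hcov
  let eK : kernel ((tL L).map (combHom v)) ≅ CohB1.tensorMod L (kernel (combHom v)) :=
    (kernelIsKernel _).conePointUniqueUpToIso hTL.fIsKernel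
  let T' := tL (CohB1.tensorPow L p)
  let Q := ⨁ fun _ : Fin m × Fin m => Coh.structureModule X
  let q : Q ⟶ CohB1.tensorMod L (kernel (combHom v)) := koszul hL v ≫ eK.hom
  haveI : Epi q := epi_comp _ _
  have hQ : Coh.IsQCoh Q := isQCoh_biprod_unit _
  haveI : PreservesColimitsOfSize.{u, u} T' := ModSiteLib.preservesColimits_tensor X.sheaf _
  haveI : Epi (T'.map q) := inferInstance
  have hQ1 : Subsingleton (Coh.HH X (T'.obj Q) 1) := subsingleton_of_forall_eq 0 fun x => by
    have hO : Subsingleton (Coh.HH X (T'.obj (Coh.structureModule X)) 1) :=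
      h1_iso (KFlatLib.tensSwap _ _ ≪≫ KFlatLib.tensUnitIso _).symm hp
    have hid : ∀ t : Finset (Fin m × Fin m), LichtLib.hm (∑ l ∈ t, T'.map (biproduct.π (fun _ : Fin m × Fin m => Coh.structureModule X) l ≫
        biproduct.ι (fun _ : Fin m × Fin m => Coh.structureModule X) l)) 1 x = 0 := fun t => by
      induction t using Finset.induction_on with
      | empty => rw [Finset.sum_empty]; exact LichtLib.hm_zero _ _ 1 x
      | insert a t ha ih =>
        rw [Finset.sum_insert ha, hm_add, ih, add_zero, T'.map_comp, LichtLib.hm_comp,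
          hO.elim (LichtLib.hm (T'.map (biproduct.π (fun _ : Fin m × Fin m => Coh.structureModule X) a)) 1 x) 0, map_zero]
    haveI : T'.Additive := inferInstance
    have h := hid Finset.univ
    rwa [← Functor.map_sum, biproduct.total, T'.map_id, LichtLib.hm_id] at h
  have hTQ : Coh.IsQCoh (T'.obj Q) := isQCoh_tensor' hQ hP'
  have hTK' : Coh.IsQCoh (T'.obj (CohB1.tensorMod L (kernel (combHom v)))) :=
    isQCoh_tensor' (isQCoh_tensor' hK hL) hP'
  have hTK : Subsingleton (Coh.HH X (CohB1.tensorMod P (kernel (combHom v))) 1) :=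
    h1_iso (SerreVanLib.tensorAssoc (CohB1.tensorPow L p) L (kernel (combHom v))).symm
      (h1_of_epi hvan hTQ hTK' (T'.map q) hQ1)
  obtain ⟨y, hy⟩ := LichtLib.surjective_g hT hTK ((DegPullLib.e0 (CohB1.tensorMod P L)).symm τ)
  let T : X.Modules ⥤ X.Modules := (DCoh.tensorBi (X := X)).obj P
  let z : Γ(T.obj (freeFin X m), ⊤) := DegPullLib.e0 _ y
  have hz : (T.map (combHom v)).app ⊤ z = τ :=
    (e0_map (T.map (combHom v)) y).symm.trans ((congrArg (DegPullLib.e0 _) hy).trans (AddEquiv.apply_symm_apply _ _))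
  obtain ⟨μ, hμ, hμ'⟩ := SerreVanLib.exists_unit_iso P
  let w : Fin m → Γ(P, ⊤) := fun l =>
    μ.app ⊤ ((T.map (biproduct.π (fun _ : Fin m => Coh.structureModule X) l)).app ⊤ z)
  refine ⟨w, ?_⟩
  have hdec : T.map (combHom v) = ∑ l : Fin m, T.map (biproduct.π (fun _ : Fin m => Coh.structureModule X) l) ≫
      T.map (unitHom L (v l)) := by
    haveI : T.Additive := inferInstance
    rw [combHom, biproduct.desc_eq, Functor.map_sum]
    exact Finset.sum_congr rfl fun l _ => T.map_comp _ _
  rw [← hz, hdec, app_finsum]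
  refine Finset.sum_congr rfl fun l _ => ?_
  show (T.map (unitHom L (v l))).app ⊤
    ((T.map (biproduct.π (fun _ : Fin m => Coh.structureModule X) l)).app ⊤ z) = _
  have h2 : ∀ a : Γ(CohB1.tensorMod P (Coh.structureModule X), ⊤),
      a = shT (μ.app ⊤ a) (show Γ(Coh.structureModule X, ⊤) from (1 : Γ(X, ⊤))) := fun a => by
    haveI := hμ
    refine (ConcreteCategory.bijective_of_isIso (μ.app ⊤)).1 ?_
    exact ((hμ' ⊤ _ _).trans (one_smul Γ(X, ⊤) _)).symm
  rw [h2 ((T.map (biproduct.π (fun _ : Fin m => Coh.structureModule X) l)).app ⊤ z)]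
  refine (KFlatLib.tensorBi_map₂_shTm P (unitHom L (v l)) _ _).trans (congrArg (shT (w l)) ?_)
  rw [unitHom_app, one_smul]
  exact AmpleLib.res_refl L _


end NefH1Lib
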