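import Groth.Agent.NefH1Lib.Field
import Groth.Agent.FibVanLib.Affine
import Groth.Agent.FibVanLib.Noeth
import Groth.Agent.FormalLib.ModPow
import Groth.Agent.QCohLib.Push
import Groth.Agent.DevissLib.AnnIdeal
import Groth.Agent.MiscFlat6.ClosedPts

/-!
# Nef invertible modules relative to an affine base
-/

set_option autoImplicit false
set_option linter.style.haveILetI false
set_option maxHeartbeats 1000000
set_option backward.isDefEq.respectTransparency false
set_option backward.isDefEq.respectTransparency.types false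
universe u

open CategoryTheory CategoryTheory.Limits AlgebraicGeometry TopologicalSpace Opposite
open DevissLib (St gm exists_gm_eq)

noncomputable section

namespace NefH1Lib

variable {A : Type u} [CommRing A] {X : Scheme.{u}} [X.Over (Spec (CommRingCat.of A))]

/-- The fibre of `X` over a maximal ideal. -/
abbrev Fib (X : Scheme.{u}) [X.Over (Spec (CommRingCat.of A))] (m : Ideal A) : Scheme.{u} :=
  pullback (X ↘ Spec (CommRingCat.of A)) (Spec.map (CommRingCat.ofHom (Ideal.Quotient.mk m)))

/-- The inclusion of a fibre. -/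
abbrev fibι (X : Scheme.{u}) [X.Over (Spec (CommRingCat.of A))] (m : Ideal A) : Fib X m ⟶ X :=
  pullback.fst _ _

instance isClosedImmersion_fibι (m : Ideal A) : IsClosedImmersion (fibι X m) :=
  haveI : IsClosedImmersion (Spec.map (CommRingCat.ofHom (Ideal.Quotient.mk m))) :=
    IsClosedImmersion.spec_of_surjective _ Ideal.Quotient.mk_surjective
  MorphismProperty.pullback_fst _ _ inferInstance

/-- The structure morphism of a fibre. -/
instance overFib (m : Ideal A) : (Fib X m).Over (Spec (CommRingCat.of (A ⧸ m))) := ⟨pullback.snd _ _⟩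

instance isProper_fib [IsProper (X ↘ Spec (CommRingCat.of A))] (m : Ideal A) :
    IsProper (Fib X m ↘ Spec (CommRingCat.of (A ⧸ m))) :=
  inferInstanceAs (IsProper (pullback.snd (X ↘ Spec (CommRingCat.of A)) _))

theorem dim_fib (hfib : ∀ y : ↥(Spec (CommRingCat.of A)),
    topologicalKrullDim ↥((X ↘ Spec (CommRingCat.of A)).fiber y) ≤ 1) (m : Ideal A) [m.IsMaximal] :
    topologicalKrullDim (Fib X m) ≤ ((1 : ℕ) : WithBot ℕ∞) := by
  let f := X ↘ Spec (CommRingCat.of A)
  let π := Spec.map (CommRingCat.ofHom (Ideal.Quotient.mk m))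
  haveI : IsClosedImmersion π := IsClosedImmersion.spec_of_surjective _ Ideal.Quotient.mk_surjective
  letI : Field (A ⧸ m) := Ideal.Quotient.field m
  haveI : Subsingleton ↥(Spec (CommRingCat.of (A ⧸ m))) := inferInstanceAs (Subsingleton (PrimeSpectrum (A ⧸ m)))
  let y : ↥(Spec (CommRingCat.of A)) := π (⟨⊥, Ideal.isPrime_bot⟩ : PrimeSpectrum (A ⧸ m))
  have hmem : ∀ z : Fib X m, fibι X m z ∈ f ⁻¹' {y} := fun z => by
    show f (fibι X m z) = y
    rw [← Scheme.Hom.comp_apply, pullback.condition, Scheme.Hom.comp_apply]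
    exact congrArg π (Subsingleton.elim _ _)
  let g : Fib X m → f.fiber y := fun z => (f.fiberHomeo y).symm ⟨fibι X m z, hmem z⟩
  have hg : Topology.IsInducing g :=
    (f.fiberHomeo y).symm.isInducing.comp
      ((fibι X m).isClosedEmbedding.isEmbedding.codRestrict _ hmem).isInducing
  exact (hg.topologicalKrullDim_le).trans (by simpa using hfib y)

/-- Multiplication by elements of `m` kills `M / m M`, hence the latter comes from the fibre. -/
theorem killed_modPow [IsNoetherianRing A] [IsLocallyNoetherian X] (m : Ideal A) {T : X.Modules}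
    (hC : Coh.IsCoh (Formal.modPow m 1 T)) :
    ClSub.KilledByIdeal (fibι X m).ker (Formal.modPow m 1 T) := by
  haveI := hC.1
  let C := Formal.modPow m 1 T
  let J := DevissLib.annIdeal C hC.2
  suffices h : (fibι X m).ker ≤ J from fun U a ha s =>
    DevissLib.killed_annIdeal C hC.2 U a (h U ha) s
  have hkill : ∀ a ∈ m, Formal.smulMod A C a = 0 := fun a ha => by
    rw [← cancel_epi (Formal.modPowπ m 1 T)]
    refine Eq.trans ?_ comp_zero.symm
    exact (KLin.comp_smulModΓ (Formal.modPowπ m 1 T) _).trans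
      (FormalLib.smulMod_modPowπ T m 1 (by rwa [pow_one]))
  let f := X ↘ Spec (CommRingCat.of A)
  let φ : A →+* Γ(J.subscheme, ⊤) := (J.subschemeι.appTop).hom.comp (Coh.toGlobal f)
  have hφ : ∀ a ∈ m, φ a = 0 := fun a ha => by
    refine J.subscheme.sheaf.eq_of_locally_eq' (fun U : X.affineOpens => J.subschemeι ⁻¹ᵁ U.1) ⊤
      (fun _ => homOfLE le_top) ?_ (φ a) 0 fun U => ?_
    · intro z _
      obtain ⟨U, hU, hz, -⟩ := exists_isAffineOpen_mem_and_subset (x := J.subschemeι z) (U := ⊤) trivial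
      exact Opens.mem_iSup.mpr ⟨⟨U, hU⟩, hz⟩
    · refine Eq.trans ?_ (map_zero _).symm
      refine (ConcreteCategory.congr_hom (J.subschemeι.naturality (homOfLE (le_top : U.1 ≤ ⊤)).op)
        (Coh.toGlobal f a)).symm.trans ?_
      show (J.subschemeι.app U.1).hom (X.presheaf.map (homOfLE (le_top : U.1 ≤ ⊤)).op (Coh.toGlobal f a)) = 0
      rw [← RingHom.mem_ker, J.ker_subschemeι_app U]
      refine Module.mem_annihilator.mpr fun s => ?_
      have h := congrArg (fun ψ : C ⟶ C => ψ.app U.1 s) (hkill a ha)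
      exact h
  let ψ : A ⧸ m →+* Γ(J.subscheme, ⊤) := Ideal.Quotient.lift m φ hφ
  let t : J.subscheme ⟶ Spec (CommRingCat.of (A ⧸ m)) := J.subscheme.toSpecΓ ≫ Spec.map (CommRingCat.ofHom ψ)
  have ht : t ≫ Spec.map (CommRingCat.ofHom (Ideal.Quotient.mk m)) = J.subschemeι ≫ f := by
    rw [Category.assoc, ← Spec.map_comp]
    have : CommRingCat.ofHom (Ideal.Quotient.mk m) ≫ CommRingCat.ofHom ψ =
        (Scheme.ΓSpecIso (CommRingCat.of A)).inv ≫ (J.subschemeι ≫ f).appTop := by
      refine CommRingCat.hom_ext (RingHom.ext fun a => ?_)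
      exact Ideal.Quotient.lift_mk m φ hφ
    rw [this, Spec.map_comp, ← Category.assoc, ← Scheme.toSpecΓ_naturality, Category.assoc,
      toSpecΓ_SpecMap_ΓSpecIso_inv]
    exact Category.comp_id _
  haveI : IsClosedImmersion (Spec.map (CommRingCat.ofHom (Ideal.Quotient.mk m))) :=
    IsClosedImmersion.spec_of_surjective _ Ideal.Quotient.mk_surjective
  rw [Scheme.IdealSheafData.ker_fst_of_isClosedImmersion, ← Scheme.IdealSheafData.le_map_iff_comap_le]
  show _ ≤ (J.subschemeι ≫ f).ker
  rw [← ht]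
  exact Scheme.Hom.le_ker_comp _ _

variable [IsNoetherianRing A] [IsProper (X ↘ Spec (CommRingCat.of A))]
  (h1 : Subsingleton (Coh.HH X (Coh.structureModule X) 1))
  (hfib : ∀ y : ↥(Spec (CommRingCat.of A)), topologicalKrullDim ↥((X ↘ Spec (CommRingCat.of A)).fiber y) ≤ 1)
  {L : X.Modules} (hL : PicF.IsInvertible L)
  (hnef : ∀ (m : Ideal A) (_ : m.IsMaximal) (J : X.IdealSheafData)
      (t : J.subscheme ⟶ Spec (CommRingCat.of (A ⧸ m))),
      AlgebraicGeometry.IsIntegral J.subscheme → topologicalKrullDim ↥J.subscheme = 1 →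
      t ≫ Spec.map (CommRingCat.ofHom (Ideal.Quotient.mk m)) = J.subschemeι ≫ (X ↘ Spec (CommRingCat.of A)) →
      0 ≤ @Curv2.deg (A ⧸ m) (Ideal.Quotient.field m) J.subscheme ⟨t⟩
        ((Scheme.Modules.pullback J.subschemeι).obj L) 1)

omit [IsNoetherianRing A] in
include hfib in
theorem hvan2 (N : X.Modules) (hN : Coh.IsQCoh N) : Subsingleton (Coh.HH X N 2) :=
  haveI := hN
  FibVanLib.subsingleton_HH_affine (X ↘ Spec (CommRingCat.of A)) 1 (by simpa using hfib) N 2 one_lt_two

include h1 hfib in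
theorem h1_fib (m : Ideal A) [m.IsMaximal] :
    Subsingleton (Coh.HH (Fib X m) (Coh.structureModule (Fib X m)) 1) := by
  haveI : IsLocallyNoetherian X := LocallyOfFiniteType.isLocallyNoetherian (X ↘ Spec (CommRingCat.of A))
  let i := fibι X m
  haveI : Coh.IsQCoh (Coh.structureModule (Fib X m)) := QCohLib.isQCoh_unit
  obtain ⟨eq⟩ := SurfNumLib.quotMod_ker_iso i
  haveI : Coh.IsQCoh ((Coh.push i).obj (Coh.structureModule (Fib X m))) := QCohLib.isQCoh_pushforward i _
  haveI : Coh.IsQCoh (ClSub.quotMod i.ker) := QCohLib.isQCoh_of_iso eq.symm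
  have hs : Subsingleton (Coh.HH X ((Coh.push i).obj (Coh.structureModule (Fib X m))) 1) :=
    haveI : Epi (ClSub.toSubscheme i.ker) := CurvLib.epi_toSubscheme i.ker
    h1_of_epi (hvan2 hfib) QCohLib.isQCoh_unit inferInstance (ClSub.toSubscheme i.ker ≫ eq.hom) h1
  obtain ⟨e⟩ := QCohLib.nonempty_HH_push i (Coh.structureModule (Fib X m)) 1
  exact e.toEquiv.subsingleton

omit [IsNoetherianRing A] in
include hL hnef in
theorem nef_fib (m : Ideal A) [hm : m.IsMaximal] :
    letI := Ideal.Quotient.field m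
    Nef' (A ⧸ m) ((Scheme.Modules.pullback (fibι X m)).obj L) := by
  letI := Ideal.Quotient.field m
  intro Z j hj hZ hd
  haveI := hj
  haveI := hZ
  let i := fibι X m
  let J := (j ≫ i).ker
  haveI : IsIso (j ≫ i).toImage := inferInstance
  let e : Z ≅ J.subscheme := asIso (j ≫ i).toImage
  haveI : Nonempty J.subscheme := ⟨e.hom (Classical.arbitrary Z)⟩
  haveI hJ : IsIntegral J.subscheme := isIntegral_of_isOpenImmersion e.inv
  have hdJ : topologicalKrullDim J.subscheme = 1 := by
    rw [← e.hom.homeomorph.isHomeomorph.topologicalKrullDim_eq]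
    exact hd
  let g : J.subscheme ⟶ Fib X m := e.inv ≫ j
  have hgi : g ≫ i = J.subschemeι := by
    show (e.inv ≫ j) ≫ i = _
    rw [Category.assoc, Iso.inv_comp_eq]
    exact (Scheme.Hom.toImage_imageι _).symm
  let t := g ≫ (Fib X m ↘ Spec (CommRingCat.of (A ⧸ m)))
  have ht : t ≫ Spec.map (CommRingCat.ofHom (Ideal.Quotient.mk m)) = J.subschemeι ≫ (X ↘ Spec (CommRingCat.of A)) := by
    rw [← hgi, Category.assoc, Category.assoc]
    exact congrArg (g ≫ ·) pullback.condition.symm
  have h := hnef m hm J t hJ hdJ ht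
  letI : Z.Over (Spec (CommRingCat.of (A ⧸ m))) := ⟨j ≫ (Fib X m ↘ Spec (CommRingCat.of (A ⧸ m)))⟩
  letI : J.subscheme.Over (Spec (CommRingCat.of (A ⧸ m))) := ⟨t⟩
  show 0 ≤ Curv2.deg (A ⧸ m) Z ((Scheme.Modules.pullback j).obj ((Scheme.Modules.pullback i).obj L)) 1
  have h' : 0 ≤ Curv2.deg (A ⧸ m) J.subscheme ((Scheme.Modules.pullback J.subschemeι).obj L) 1 := h
  let E : (Scheme.Modules.pullback J.subschemeι).obj L ≅ (Scheme.Modules.pullback g).obj ((Scheme.Modules.pullback i).obj L) :=
    ((Scheme.Modules.pullbackCongr hgi).app L).symm ≪≫ ((Scheme.Modules.pullbackComp g i).app L).symm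
  have hP := AmpleDevLib.isInvertible_pb i hL
  have hk : g.ker = j.ker := Scheme.Hom.ker_comp_of_isIso e.inv j
  rw [CurvLib.deg_congr (k := A ⧸ m) E, Curv2.deg, (euler_pullback (A ⧸ m) g rfl hP).1,
    (euler_pullback (A ⧸ m) g rfl hP).2, hk] at h'
  rw [Curv2.deg, (euler_pullback (A ⧸ m) j rfl hP).1, (euler_pullback (A ⧸ m) j rfl hP).2]
  exact h'

include h1 hfib hL hnef in
/-- On a quotient killed by a maximal ideal: no `H¹`, and a nonzero section if it is nonzero. -/
theorem modPow_data (m : Ideal A) [m.IsMaximal] {T : X.Modules} (π : L ⟶ T) [Epi π] (hT : Coh.IsCoh T) :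
    Subsingleton (Coh.HH X (Formal.modPow m 1 T) 1) ∧
      (¬ IsZero (Formal.modPow m 1 T) → ∃ t : Γ(Formal.modPow m 1 T, ⊤), t ≠ 0) := by
  letI := Ideal.Quotient.field m
  haveI : IsLocallyNoetherian X := LocallyOfFiniteType.isLocallyNoetherian (X ↘ Spec (CommRingCat.of A))
  haveI := hT.1
  haveI : Epi (Formal.modPowπ m 1 T) := inferInstanceAs (Epi (cokernel.π _))
  have hC : Coh.IsCoh (Formal.modPow m 1 T) :=
    ⟨FormalLib.isQCoh_modPow T m 1, QCohLib.isFT_of_epi (Formal.modPowπ m 1 T) hT.2⟩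
  let i := fibι X m
  haveI := DevissLib.isIso_unit_of_killed i (killed_modPow m hC)
  let C := Formal.modPow m 1 T
  let G := (Scheme.Modules.pullback i).obj C
  let ec : C ≅ (Coh.push i).obj G := asIso ((Scheme.Modules.pullbackPushforwardAdjunction i).unit.app C)
  haveI := CurvLib.isNoetherian (A ⧸ m) (X := Fib X m)
  have hGc : Coh.IsCoh G := DevissLib.isCoh_of_isCoh_push i _ (QCohLib.isCoh_of_iso ec hC)
  haveI : (Scheme.Modules.pullback i).IsLeftAdjoint := ⟨_, ⟨Scheme.Modules.pullbackPushforwardAdjunction i⟩⟩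
  let q : (Scheme.Modules.pullback i).obj L ⟶ G := (Scheme.Modules.pullback i).map (π ≫ Formal.modPowπ m 1 T)
  haveI : Epi (π ≫ Formal.modPowπ m 1 T) := epi_comp _ _
  haveI : Epi q := inferInstanceAs (Epi ((Scheme.Modules.pullback i).map _))
  have hP := AmpleDevLib.isInvertible_pb i hL
  have hn := nef_fib hL hnef m
  have hd := dim_fib hfib m
  have h1m := h1_fib h1 hfib m
  have hv : ∀ N : (Fib X m).Modules, Coh.IsQCoh N → Subsingleton (Coh.HH (Fib X m) N 2) := fun N _ =>
    CurvLib.subsingleton_HH_of_dim_le N hd 2 one_lt_two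
  have hG1 : Subsingleton (Coh.HH (Fib X m) G 1) :=
    h1_of_epi hv (CurvLib.isCoh_of_isInvertible hP).1 hGc.1 q (gg_and_h1 (A ⧸ m) hd h1m hP hn).2
  haveI := hGc.1
  refine ⟨?_, fun hne => ?_⟩
  · obtain ⟨e⟩ := QCohLib.nonempty_HH_push i G 1
    haveI : Subsingleton (Coh.HH X ((Coh.push i).obj G) 1) := e.toEquiv.symm.subsingleton
    exact (LichtLib.hm_bijective ec.hom 1).1.subsingleton
  · obtain ⟨t, ht⟩ := exists_section_quot (A ⧸ m) hd h1m hP hn G q inferInstance hGc fun hz =>
      hne (((Coh.push i).map_isZero hz).of_iso ec)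
    refine ⟨ec.inv.app ⊤ (show Γ((Coh.push i).obj G, ⊤) from t), fun h => ht ?_⟩
    have h2 := congrArg (ec.hom.app ⊤) h
    rw [map_zero, ← ConcreteCategory.comp_apply, ← Scheme.Modules.Hom.comp_app, Iso.inv_hom_id] at h2
    exact h2

theorem hm_smul (M : X.Modules) (a : A) (x : Coh.HH X M 1) :
    LichtLib.hm (Formal.smulMod A M a) 1 x = a • x := by
  rfl

include h1 hfib hL hnef in
/-- Quotients of `L` have no `H¹`. -/
theorem h1_quot {T : X.Modules} (π : L ⟶ T) [Epi π] (hT : Coh.IsCoh T) : Subsingleton (Coh.HH X T 1) := by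
  classical
  haveI := hT.1
  haveI : Module.Finite A (Coh.HH X T 1) :=
    AtlasCoh.finiteCoh_of_isProper (X ↘ Spec (CommRingCat.of A)) T hT 1
  haveI : CompactSpace X := QuasiCompact.compactSpace_of_compactSpace (X ↘ Spec (CommRingCat.of A))
  by_contra hne
  rw [not_subsingleton_iff_nontrivial] at hne
  have hann : Module.annihilator A (Coh.HH X T 1) ≠ ⊤ := fun h => by
    obtain ⟨x, hx⟩ := exists_ne (0 : Coh.HH X T 1)
    exact hx ((one_smul A x).symm.trans (Module.mem_annihilator.1 (h ▸ Submodule.mem_top) x))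
  obtain ⟨m, hm, hle⟩ := Ideal.exists_le_maximal _ hann
  haveI := hm
  have hsub : (⊤ : Submodule A (Coh.HH X T 1)) ≤ m • ⊤ := by
    intro y _
    obtain ⟨r, _, a, ha, w, hex⟩ := FormalLib.exists_finite_presentation (A := A) T m 1
    let s := biproduct.desc fun k : r => Formal.smulMod A T (a k)
    haveI : Epi (Formal.modPowπ m 1 T) := inferInstanceAs (Epi (cokernel.π _))
    have hS := kernel_shortExact (Formal.modPowπ m 1 T)
    obtain ⟨z, hz⟩ := LichtLib.surjective_f hS (modPow_data h1 hfib hL hnef m π hT).1 y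
    haveI : Epi (kernel.lift (Formal.modPowπ m 1 T) s w) := hex.epi_kernelLift
    haveI : Coh.IsQCoh (Formal.modPow m 1 T) := FormalLib.isQCoh_modPow T m 1
    haveI : Coh.IsQCoh (⨁ fun _ : r => T) := by
      haveI := QCohLib.isQCoh_sigma (fun _ : r => T) fun _ => inferInstance
      exact QCohLib.isQCoh_of_iso (biproduct.isoCoproduct _).symm
    obtain ⟨z', rfl⟩ := surjective_h1 (hvan2 hfib) inferInstance
      (isQCoh_kernel_epi _ inferInstance inferInstance) (kernel.lift (Formal.modPowπ m 1 T) s w) z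
    rw [← hz, ← LichtLib.hm_comp, show kernel.lift (Formal.modPowπ m 1 T) s w ≫
      kernel.ι (Formal.modPowπ m 1 T) = s from kernel.lift_ι _ _ _]
    have hdec : ∀ t : Finset r,
        LichtLib.hm (∑ k ∈ t, biproduct.π (fun _ : r => T) k ≫ Formal.smulMod A T (a k)) 1 z' ∈
          (m • ⊤ : Submodule A (Coh.HH X T 1)) := fun t => by
      induction t using Finset.induction_on with
      | empty => rw [Finset.sum_empty, LichtLib.hm_zero]; exact zero_mem _
      | insert b t hb ih =>
        rw [Finset.sum_insert hb]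
        have hadd : ∀ (φ ψ : (⨁ fun _ : r => T) ⟶ T) (x : Coh.HH X (⨁ fun _ : r => T) 1),
            LichtLib.hm (φ + ψ) 1 x = LichtLib.hm φ 1 x + LichtLib.hm ψ 1 x := fun φ ψ x => by
          refine (congrArg (fun α => Sheaf.H.map α 1 x) ((SheafOfModules.toSheaf X.ringCatSheaf).map_add)).trans ?_
          show Abelian.Ext.comp x (Abelian.Ext.mk₀ (_ + _)) (add_zero 1) = _
          rw [Abelian.Ext.mk₀_add, Abelian.Ext.comp_add]
          rfl
        rw [hadd]
        refine add_mem ?_ ih
        rw [LichtLib.hm_comp, hm_smul]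
        exact Submodule.smul_mem_smul (by simpa [pow_one] using ha b) Submodule.mem_top
    have hs : s = ∑ k, biproduct.π (fun _ : r => T) k ≫ Formal.smulMod A T (a k) := by
      refine biproduct.hom_ext' _ _ fun j => ?_
      simp only [s, biproduct.ι_desc, Preadditive.comp_sum, ← Category.assoc]
      rw [Finset.sum_eq_single j (fun b _ hb => by rw [biproduct.ι_π_ne _ (Ne.symm hb), zero_comp])
        (fun h => absurd (Finset.mem_univ j) h), biproduct.ι_π_self, Category.id_comp]
    rw [hs]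
    exact hdec Finset.univ
  obtain ⟨c, hc, hc0⟩ := Submodule.exists_sub_one_mem_and_smul_eq_zero_of_fg_of_le_smul m ⊤ Module.Finite.fg_top hsub
  have hcm : c ∈ m := hle (Module.mem_annihilator.2 fun x => hc0 x Submodule.mem_top)
  exact hm.ne_top (Ideal.eq_top_iff_one _ |>.2 (by simpa using m.sub_mem hcm hc))

theorem exists_maximal_ne_zero {T : X.Modules} (hT : Coh.IsCoh T) (hne : ¬ IsZero T) :
    ∃ m : Ideal A, m.IsMaximal ∧ ¬ IsZero (Formal.modPow m 1 T) := by
  classical
  haveI := hT.1
  haveI : IsLocallyNoetherian X := LocallyOfFiniteType.isLocallyNoetherian (X ↘ Spec (CommRingCat.of A))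
  obtain ⟨x₀, hx₀⟩ : (CohB1.support T).Nonempty := Set.nonempty_iff_ne_empty.mpr fun h =>
    hne (DevissLib.isZero_of_support_empty h)
  obtain ⟨x, hx, hsp⟩ := MiscFlat6.exists_closed_specializes x₀
  have hxs : x ∈ CohB1.support T := hsp.mem_closed (QCohLib.isClosed_support T hT.2) hx₀
  let f := X ↘ Spec (CommRingCat.of A)
  have hclosed : IsClosed ({f x} : Set ↥(Spec (CommRingCat.of A))) := by
    rw [← Set.image_singleton]
    exact f.isClosedMap _ hx
  let m := (f x : PrimeSpectrum A).asIdeal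
  haveI hm : m.IsMaximal := (PrimeSpectrum.isClosed_singleton_iff_isMaximal (R := A) _).1 hclosed
  refine ⟨m, hm, fun hz => hxs ?_⟩
  obtain ⟨r, _, a, ha, w, hex⟩ := FormalLib.exists_finite_presentation (A := A) T m 1
  let s := biproduct.desc fun k : r => Formal.smulMod A T (a k)
  haveI : Epi s := hex.epi_f (hz.eq_of_tgt _ _)
  haveI : IsNoetherian (X.presheaf.stalk x) ((St x).obj T) := DevissLib.isNoetherian_stalk hT x
  haveI : Epi ((St x).map s) := inferInstance
  have htop : (⊤ : Submodule (X.presheaf.stalk x) ((St x).obj T)) ≤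
      IsLocalRing.maximalIdeal (X.presheaf.stalk x) • ⊤ := fun y _ => by
    obtain ⟨z, rfl⟩ := (ModuleCat.epi_iff_surjective ((St x).map s)).mp inferInstance y
    have hs : s = ∑ k, biproduct.π (fun _ : r => T) k ≫ Formal.smulMod A T (a k) := by
      refine biproduct.hom_ext' _ _ fun j => ?_
      simp only [s, biproduct.ι_desc, Preadditive.comp_sum, ← Category.assoc]
      rw [Finset.sum_eq_single j (fun b _ hb => by rw [biproduct.ι_π_ne _ (Ne.symm hb), zero_comp])
        (fun h => absurd (Finset.mem_univ j) h), biproduct.ι_π_self, Category.id_comp]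
    rw [hs]
    suffices h : ∀ q : Finset r, ((St x).map (∑ k ∈ q, biproduct.π (fun _ : r => T) k ≫
        Formal.smulMod A T (a k))).hom z ∈ (IsLocalRing.maximalIdeal (X.presheaf.stalk x) • ⊤ :
          Submodule (X.presheaf.stalk x) ((St x).obj T)) from h Finset.univ
    intro q
    induction q using Finset.induction_on with
    | empty => rw [Finset.sum_empty, Functor.map_zero]; exact zero_mem _
    | insert k q hk ih =>
    rw [Finset.sum_insert hk, Functor.map_add, ModuleCat.hom_add, LinearMap.add_apply]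
    refine add_mem ?_ ih
    rw [Functor.map_comp]
    obtain ⟨U, hU, t, ht⟩ := exists_gm_eq T x (((St x).map (biproduct.π (fun _ : r => T) k)).hom z)
    show ((St x).map (Formal.smulMod A T (a k))).hom (((St x).map (biproduct.π (fun _ : r => T) k)).hom z) ∈ _
    rw [← ht, DevissLib.gm_app]
    show gm T x hU (X.presheaf.map (homOfLE (le_top : U ≤ ⊤)).op (Coh.toGlobal f (a k)) • t) ∈ _
    rw [DevissLib.gm_smul, TopCat.Presheaf.germ_res_apply]
    refine Submodule.smul_mem_smul ((IsLocalRing.mem_maximalIdeal _).2 fun hu => ?_) Submodule.mem_top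
    have hb : x ∈ X.basicOpen (show Γ(X, ⊤) from Coh.toGlobal f (a k)) :=
      (X.mem_basicOpen_top _ x).2 hu
    exact (FibVanLib.mem_basicOpen_toGlobal (a k) x).1 hb (by simpa [pow_one] using ha k)
  have hbot := Submodule.eq_bot_of_le_smul_of_le_jacobson_bot _ _ (IsNoetherian.noetherian _) htop
    (IsLocalRing.maximalIdeal_le_jacobson _)
  exact (Submodule.subsingleton_iff (X.presheaf.stalk x)).1 (subsingleton_of_bot_eq_top hbot.symm)

include h1 hfib hL hnef in
/-- Nonzero quotients of `L` have sections. -/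
theorem exists_section_rel (T : X.Modules) (π : L ⟶ T) (hπ : Epi π) (hT : Coh.IsCoh T) (hne : ¬ IsZero T) :
    ∃ t : Γ(T, ⊤), t ≠ 0 := by
  classical
  haveI := hπ
  haveI := hT.1
  haveI : CompactSpace X := QuasiCompact.compactSpace_of_compactSpace (X ↘ Spec (CommRingCat.of A))
  haveI : IsLocallyNoetherian X := LocallyOfFiniteType.isLocallyNoetherian (X ↘ Spec (CommRingCat.of A))
  obtain ⟨m, hm, hne'⟩ := exists_maximal_ne_zero (A := A) hT hne
  haveI := hm
  obtain ⟨t, ht⟩ := (modPow_data h1 hfib hL hnef m π hT).2 hne'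
  obtain ⟨r, _, a, ha, w, hex⟩ := FormalLib.exists_finite_presentation (A := A) T m 1
  let s := biproduct.desc fun k : r => Formal.smulMod A T (a k)
  haveI : Epi (kernel.lift (Formal.modPowπ m 1 T) s w) := hex.epi_kernelLift
  haveI : Coh.IsQCoh (Formal.modPow m 1 T) := FormalLib.isQCoh_modPow T m 1
  haveI : Coh.IsQCoh (⨁ fun _ : r => T) := by
    haveI := QCohLib.isQCoh_sigma (fun _ : r => T) fun _ => inferInstance
    exact QCohLib.isQCoh_of_iso (biproduct.isoCoproduct _).symm
  have hT1 := h1_quot h1 hfib hL hnef π hT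
  have hB : Subsingleton (Coh.HH X (⨁ fun _ : r => T) 1) := by
    haveI : X.IsSeparated := ⟨by rw [← terminal.comp_from (X ↘ Spec (CommRingCat.of A))]; infer_instance⟩
    have h := AmpleAffLib.subsingleton_HH_sigma (F := fun _ : r => T) (fun _ => inferInstance) (p := 1) fun _ => hT1
    exact (LichtLib.hm_bijective (biproduct.isoCoproduct fun _ : r => T).inv 1).2.subsingleton
  have hK1 : Subsingleton (Coh.HH X (kernel (Formal.modPowπ m 1 T)) 1) :=
    h1_of_epi (hvan2 hfib) inferInstance (isQCoh_kernel_epi _ inferInstance inferInstance)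
      (kernel.lift (Formal.modPowπ m 1 T) s w) hB
  haveI : Epi (Formal.modPowπ m 1 T) := inferInstanceAs (Epi (cokernel.π _))
  obtain ⟨x, hx⟩ := LichtLib.surjective_g (kernel_shortExact (Formal.modPowπ m 1 T)) hK1
    ((DegPullLib.e0 _).symm t)
  refine ⟨DegPullLib.e0 T x, fun h => ht ?_⟩
  have h2 := (e0_map (Formal.modPowπ m 1 T) x).symm
  rw [h, map_zero] at h2
  rw [← (DegPullLib.e0 (Formal.modPow m 1 T)).apply_symm_apply t, ← hx]
  exact h2.symm

include h1 hfib hL hnef in
/-- **Lipman's theorem.** -/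
theorem gg_and_h1_rel : Curv2.IsGloballyGenerated L ∧ Subsingleton (Coh.HH X L 1) := by
  haveI : CompactSpace X := QuasiCompact.compactSpace_of_compactSpace (X ↘ Spec (CommRingCat.of A))
  haveI : IsLocallyNoetherian X := LocallyOfFiniteType.isLocallyNoetherian (X ↘ Spec (CommRingCat.of A))
  haveI : X.IsSeparated := ⟨by rw [← terminal.comp_from (X ↘ Spec (CommRingCat.of A))]; infer_instance⟩
  have hLc := CurvLib.isCoh_of_isInvertible hL
  have hgg := gg_of_sections (hvan2 hfib) h1 hLc (exists_section_rel h1 hfib hL hnef)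
  exact ⟨hgg, h1_of_gg (hvan2 hfib) h1 hLc.1 hgg⟩

end NefH1Lib
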