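import Groth.Agent.NefH1Lib.Koszul
import Groth.Agent.NefH1Lib.Embed

/-!
# The square of a generated ample module without `H¹` is very ample
-/

set_option autoImplicit false
set_option linter.style.haveILetI false
set_option backward.isDefEq.respectTransparency false
set_option backward.isDefEq.respectTransparency.types false
set_option maxHeartbeats 1000000
universe u

open CategoryTheory CategoryTheory.Limits AlgebraicGeometry TopologicalSpace Opposite
open HomogeneousLocalization AmpleLib
open TwistLib (genSet)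
open AmpleThLib

noncomputable section

namespace NefH1Lib

variable {X : Scheme.{u}} {R : Type u} [CommRing R] [IsNoetherianRing R] (q : X ⟶ Spec (CommRingCat.of R))
  [IsProper q] {L : X.Modules} (hL : PicF.IsInvertible L)
  (hvan : ∀ N : X.Modules, Coh.IsQCoh N → Subsingleton (Coh.HH X N 2))

include hvan in
theorem h1_pow (hgg : Curv2.IsGloballyGenerated L) (h1 : Subsingleton (Coh.HH X L 1)) (hL : PicF.IsInvertible L)
    [CompactSpace X] [X.IsSeparated] [IsLocallyNoetherian X] : ∀ j, Subsingleton (Coh.HH X (CohB1.tensorPow L (j + 1)) 1)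
  | 0 => h1_iso (KFlatLib.tensUnitIso L).symm h1
  | j + 1 => h1_tensor_gg hvan (CurvLib.isCoh_of_isInvertible (AmpleThLib.tensorPow_isInvertible hL (j + 1))).1
      (h1_pow hgg h1 hL j) hL hgg

include hvan hL in
/-- The square is very ample. -/
theorem exists_closedImmersion_sq (hA : CohB1.IsAmple L) (hgg : Curv2.IsGloballyGenerated L)
    (h1 : Subsingleton (Coh.HH X L 1)) :
    ∃ (N : ℕ) (r : X ⟶ Proj (CohB1.polyGrading N R)), IsClosedImmersion r ∧
      r ≫ baseA (CohB1.polyGrading N R) = q ∧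
      Nonempty ((Scheme.Modules.pullback r).obj (Twist.twist (CohB1.polyGrading N R) ((1 : ℕ) : ℤ)) ≅
        CohB1.tensorPow L 2) := by
  classical
  haveI : CompactSpace X := QuasiCompact.compactSpace_of_compactSpace q
  haveI : QuasiSeparatedSpace X := quasiSeparatedSpace_of_quasiSeparated q
  haveI : IsLocallyNoetherian X := LocallyOfFiniteType.isLocallyNoetherian q
  haveI : X.IsSeparated := ⟨by rw [← terminal.comp_from q]; infer_instance⟩
  have hL2 : PicF.IsInvertible (CohB1.tensorPow L 2) := AmpleThLib.tensorPow_isInvertible hL 2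
  have hA2 : CohB1.IsAmple (CohB1.tensorPow L 2) :=
    (AmpleThLib.isAmple_tensorPow_iff hL (Nat.succ_pos 1)).mp hA
  obtain ⟨m, v₁, hv⟩ := exists_span q (CurvLib.isCoh_of_isInvertible hL)
  have hv' : ∀ σ : Γ(L, ⊤), ∃ c : Fin (m + 1) → Γ(X, ⊤), σ = ∑ l, c l • v₁ l := fun σ =>
    (hv σ).elim fun c hc => ⟨_, hc⟩
  have hcov₁ := cover_of_span hL hgg v₁ hv'
  obtain ⟨m₂, v₂, hv₂⟩ := exists_span q (CurvLib.isCoh_of_isInvertible hL2)
  let M := m₂ + 1 + m
  let v : Fin (M + 1) → Γ(CohB1.tensorPow L 2, ⊤) :=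
    Fin.append (m := m₂ + 1) (n := m + 1) v₂ fun a => pS (v₁ a) 2
  have hsq : ∀ a : Fin (m + 1), v (Fin.natAdd (m₂ + 1) a) = pS (v₁ a) 2 := fun a => Fin.append_right _ _ a
  have hgs : ∀ a : Fin (m + 1), genSet hL2 (v (Fin.natAdd (m₂ + 1) a)) = genSet hL (v₁ a) := fun a => by
    rw [hsq]; exact genSet_pS hL (v₁ a) Nat.two_pos
  have hspan : ∀ σ : Γ(CohB1.tensorPow L 2, ⊤), ∃ c : Fin (M + 1) → R, σ = ∑ l, gl q (c l) • v l := fun σ => by
    obtain ⟨c, hc⟩ := hv₂ σ
    refine ⟨Fin.append (m := m₂ + 1) (n := m + 1) c 0, ?_⟩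
    show σ = ∑ l : Fin (m₂ + 1 + (m + 1)), _
    rw [Fin.sum_univ_add]
    simp only [v, Fin.append_left, Fin.append_right, Pi.zero_apply, map_zero, zero_smul, Finset.sum_const_zero,
      add_zero]
    exact hc
  have hcl : ∀ a : Fin (m + 1),
      Subring.closure (Set.range (q.appLE ⊤ (genSet hL2 (v (Fin.natAdd (m₂ + 1) a))) le_top) ∪
        {c | ∃ l, c • res (CohB1.tensorPow L 2) (le_top : genSet hL2 (v (Fin.natAdd (m₂ + 1) a)) ≤ ⊤)
          (v (Fin.natAdd (m₂ + 1) a)) = res (CohB1.tensorPow L 2) le_top (v l)}) = ⊤ := by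
    intro a
    rw [hgs a, hsq a]
    let V := genSet hL (v₁ a)
    let s := v₁ a
    let S := Subring.closure (Set.range (q.appLE ⊤ V le_top) ∪
        {c | ∃ l, c • res (CohB1.tensorPow L 2) (le_top : V ≤ ⊤) (pS s 2) = res (CohB1.tensorPow L 2) le_top (v l)})
    have hsV : GenOn L (res L (le_top : V ≤ ⊤) s) :=
      TwistLib.genOn_of_genAt fun x hx => (genAt_res le_top s hx).mpr hx
    have hS2 : ∀ t : Γ(CohB1.tensorPow L 2, ⊤), ∃ c ∈ S,
        c • pS (res L (le_top : V ≤ ⊤) s) 2 = res (CohB1.tensorPow L 2) le_top t := fun t => by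
      have hcoef : ∀ l, ∃ c ∈ S, c • pS (res L (le_top : V ≤ ⊤) s) 2 = res _ le_top (v l) := fun l => by
        obtain ⟨c, hc⟩ := (pS_genOn hsV 2 V le_rfl).2 (res _ le_top (v l))
        dsimp only at hc
        rw [AmpleLib.res_refl] at hc
        exact ⟨c, Subring.subset_closure (Or.inr ⟨l, by rw [pS_res]; exact hc⟩), hc⟩
      choose cl hclS hcl using hcoef
      obtain ⟨c, hc⟩ := hspan t
      refine ⟨∑ l, X.presheaf.map (homOfLE (le_top : V ≤ ⊤)).op (gl q (c l)) * cl l,
        sum_mem fun l _ => S.mul_mem (Subring.subset_closure (Or.inl ⟨_, (toGlobal_res q (c l) V).symm⟩)) (hclS l), ?_⟩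
      rw [hc, Finset.sum_smul]
      refine Eq.trans ?_ (map_sum ((CohB1.tensorPow L 2).presheaf.map (homOfLE (le_top : V ≤ ⊤)).op).hom _ _).symm
      refine Finset.sum_congr rfl fun l _ => ?_
      refine Eq.trans ?_ (res_smul (CohB1.tensorPow L 2) le_top (gl q (c l)) (v l)).symm
      rw [mul_smul, hcl]
    choose cf hcf using fun l => (hsV V le_rfl).2 (res L le_top (v₁ l))
    simp only [AmpleLib.res_refl] at hcf
    have hprod : ∀ l l', cf l * cf l' ∈ S := fun l l' => by
      obtain ⟨c, hc, hc'⟩ := hS2 (shT (pS (v₁ l) 1) (v₁ l'))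
      suffices cf l * cf l' = c by rw [this]; exact hc
      refine (pS_genOn hsV 2 V le_rfl).1 ?_
      dsimp only
      rw [AmpleLib.res_refl, hc']
      refine Eq.trans ?_ (shT_res le_top (pS (v₁ l) 1) (v₁ l')).symm
      rw [pS_res, ← hcf l, ← hcf l', pS_smul, pow_one]
      exact (AmpleLib.shT_smul _ _ _ _).symm
    have hmem : ∀ (d : ℕ), (∃ j, d = 2 * j + 2) → ∀ τ : Γ(CohB1.tensorPow L d, ⊤),
        ∃ c ∈ S, c • pS (res L (le_top : V ≤ ⊤) s) d = res (CohB1.tensorPow L d) le_top τ := by
      rintro d ⟨j, rfl⟩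
      induction j with
      | zero => exact hS2
      | succ j ih =>
        intro τ
        obtain ⟨u, rfl⟩ := mul_surjective_pow hL v₁ hvan hgg hcov₁ hv' (2 * j + 2)
          (h1_pow hvan hgg h1 hL (2 * j + 1)) τ
        choose u' hu' using fun l => mul_surjective_pow hL v₁ hvan hgg hcov₁ hv' (2 * j + 1)
          (h1_pow hvan hgg h1 hL (2 * j)) (u l)
        choose e he he' using fun l l' => ih (u' l l')
        refine ⟨∑ l, ∑ l', e l l' * (cf l' * cf l),
          sum_mem fun l _ => sum_mem fun l' _ => S.mul_mem (he l l') (hprod l' l), ?_⟩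
        refine Eq.trans ?_ (map_sum ((CohB1.tensorMod (CohB1.tensorPow L (2 * j + 2 + 1)) L).presheaf.map
          (homOfLE (le_top : V ≤ ⊤)).op).hom _ _).symm
        rw [Finset.sum_smul]
        refine Finset.sum_congr rfl fun l _ => ?_
        refine Eq.trans ?_ (shT_res le_top (u l) (v₁ l)).symm
        have hu : res (CohB1.tensorPow L (2 * j + 2 + 1)) (le_top : V ≤ ⊤) (u l) =
            (∑ l', e l l' * cf l') • pS (res L (le_top : V ≤ ⊤) s) (2 * j + 2 + 1) := by
          rw [hu' l]
          refine (map_sum ((CohB1.tensorMod (CohB1.tensorPow L (2 * j + 2)) L).presheaf.map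
            (homOfLE (le_top : V ≤ ⊤)).op).hom _ _).trans ?_
          rw [Finset.sum_smul]
          refine Finset.sum_congr rfl fun l' _ => ?_
          refine (shT_res le_top (u' l l') (v₁ l')).trans ?_
          rw [← he' l l', ← hcf l']
          exact AmpleLib.shT_smul _ _ _ _
        rw [hu, ← hcf l]
        refine Eq.trans ?_ (AmpleLib.shT_smul _ _ _ _).symm
        rw [Finset.sum_mul]
        simp only [mul_assoc]
        rfl
    let V₀ := V
    let V' := genSet (tensorPow_isInvertible hL 1) (pS s 1)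
    have hVV : V' = V := genSet_pS hL s Nat.one_pos
    rw [eq_top_iff]
    rintro f -
    obtain ⟨N, hN⟩ := exists_extend hL (pS s 1) (r := 0)
      (show Γ(CohB1.tensorPow L 0, V') from X.presheaf.map (homOfLE hVV.le).op f)
    obtain ⟨u, hu⟩ := hN (2 * N + 2) (by omega)
    obtain ⟨c, hc, hc'⟩ := hmem _ ⟨N, by omega⟩ u
    suffices f = c by rw [this]; exact hc
    refine (pS_genOn hsV (0 + 1 * (2 * N + 2)) V le_rfl).1 ?_
    dsimp only
    rw [AmpleLib.res_refl, hc']
    have h2 := congrArg (res _ hVV.ge) hu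
    rw [res_res] at h2
    rw [h2]
    have hone : (1 : Γ(X, V)) • pS (res L (le_top : V ≤ ⊤) s) 1 = res _ le_top (pS s 1) := by
      rw [one_smul, pS_res]
    have h3 := tPow_coeff hL (pS s 1) hsV hone (2 * N + 2)
    have h4 : res (CohB1.tensorPow L 0) hVV.ge
        (show Γ(CohB1.tensorPow L 0, V') from X.presheaf.map (homOfLE hVV.le).op f) =
        f • pS (res L (le_top : V ≤ ⊤) s) 0 := by
      refine Eq.trans ?_ (mul_one f).symm
      exact (AmpleLib.res_res (Coh.structureModule X) hVV.le hVV.ge f).trans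
        (AmpleLib.res_refl (M := Coh.structureModule X) f)
    rw [mul_res, res_res, ← h3, h4, mul_coeff hL hsV, one_pow, mul_one]
  have hcov : ∀ x : X, ∃ j, x ∈ genSet hL2 (v j) := fun x => by
    obtain ⟨a, ha⟩ := hcov₁ x
    exact ⟨_, (hgs a).ge ha⟩
  obtain ⟨r, hrb, hpre, hcoef, hτ⟩ := GenusZeroLib.exists_toPA_iso q hL2 v hcov
  let p := baseA (CohB1.polyGrading M R)
  have : IsProper (r ≫ p) := by rw [hrb]; infer_instance
  have : IsSeparated p := by simp only [p, baseA]; infer_instance
  have : IsProper r := IsProper.of_comp r p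
  refine ⟨M, r, ?_, hrb, hτ⟩
  have : IsImmersion r := by
    refine isImmersion_of_local r
      (fun a : Fin (m + 1) => Proj.basicOpen (CohB1.polyGrading M R)
        (MvPolynomial.X (Fin.natAdd (m₂ + 1) a : Fin (M + 1)))) (fun x => ?_) (fun a => ?_)
    · obtain ⟨j, hx⟩ := hcov₁ x
      exact ⟨j, (hpre _).ge ((hgs j).ge hx)⟩
    · let j : Fin (M + 1) := Fin.natAdd (m₂ + 1) a
      let D := Proj.basicOpen (CohB1.polyGrading M R) (MvPolynomial.X j)
      have : IsAffine (r ⁻¹ᵁ D).toScheme := (hpre j).symm ▸ CurveAmpLib.isAffineOpen_genSet q hL2 hA2 (v j)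
      have : IsAffine D.toScheme :=
        Proj.isAffineOpen_basicOpen _ _ (MvPolynomial.isHomogeneous_X R j) one_pos
      refine IsClosedImmersion.of_surjective_of_isAffine _ ?_
      rw [Scheme.Hom.appTop, morphismRestrict_app']
      refine surjective_appLE_congr r D.ι_image_top.symm
        ((hpre j).symm.trans (Scheme.Opens.ι_image_top _).symm) (hpre j).ge _ ?_
      intro b
      suffices h : b ∈ (r.appLE D _ (hpre j).ge).hom.range from h
      refine (show Subring.closure _ ≤ _ from Subring.closure_le.mpr ?_)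
        ((hcl a).ge (Subring.mem_top b))
      rintro _ (⟨y, rfl⟩ | ⟨l, hl⟩)
      · refine ⟨p.appLE ⊤ D le_top y, ?_⟩
        rw [← CommRingCat.comp_apply, Scheme.Hom.appLE_comp_appLE]
        simp only [p, hrb]
        rfl
      · refine ⟨Proj.awayToSection (CohB1.polyGrading M R) (MvPolynomial.X j)
          (TwistLib.frac (CohB1.polyGrading M R) (MvPolynomial.isHomogeneous_X R j)
            (MvPolynomial.isHomogeneous_X R l)), ?_⟩
        refine (TwistLib.genSet_genOn hL2 (v j) _ le_rfl).1 ?_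
        dsimp only
        rw [res_res, hl]
        have h1 := congrArg (res _ (hpre j).ge) (hcoef j l)
        rw [res_smul, res_res, res_res] at h1
        refine Eq.trans ?_ h1
        congr 1
  exact IsClosedImmersion.of_isPreimmersion r r.isClosedMap.isClosed_range

end NefH1Lib
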